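import Cfsg.Agent.Lib.Partition.FieldElement
import Cfsg.Agent.Lib.CTwoAbelian.PSLTwo

/-!
A group with a partition over a two-dimensional projective special linear group is `PSL₂` or `PGL₂`.
-/

set_option autoImplicit false
set_option linter.unusedSectionVars false
set_option linter.style.haveILetI false

namespace CfsgLib.Partition

open Subgroup Matrix
open CfsgLib.PSL2 (mk uu vv diagAut fieldAut dil dSL fieldPart)
open CfsgLib.EvenCyclicNorm (autHom fieldHom wE dHom)
open scoped MatrixGroups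

universe u

section Range

variable {F : Type} [Field F] [Fintype F]

local notation "SL" => Matrix.SpecialLinearGroup (Fin 2) F
local notation "PSL" => Matrix.ProjectiveSpecialLinearGroup (Fin 2) F

variable {G : Type u} [Group G] [Finite G] (P : Part G) (hnil : ∀ a : G, a ≠ 1 → Group.IsNilpotent (P.comp a))
  (ι : Matrix.ProjectiveSpecialLinearGroup (Fin 2) F →* G) (hι : Function.Injective ι)
  [hN : ι.range.Normal] (hC : centralizer (ι.range : Set G) = ⊥)

include P hnil hι hC

/-- The group is `PSL₂` or `PGL₂`. -/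
theorem of_psl (h4 : 4 < Fintype.card F) :
    Nonempty (G ≃* PSL) ∨ (Odd (Fintype.card F) ∧ Nonempty (G ≃* Matrix.ProjGenLinGroup (Fin 2) F)) := by
  classical
  obtain ⟨p, hp'⟩ := CharP.exists F
  haveI := hp'
  haveI : Fact p.Prime := ⟨CharP.char_is_prime F p⟩
  haveI : Finite (RingAut F) := Finite.of_injective (fun e : RingAut F => ((e : F ≃+* F) : F → F))
    (fun a b e => RingEquiv.ext (congrFun e))
  set φ := autHom ι hι
  have hpure : ∀ (g : G) (e : RingAut F), (orderOf e).Prime → autHom ι hι g = fieldHom e → False := by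
    intro g e hr hg
    by_cases hp2 : p = 2
    · subst hp2
      exact pure_even P hnil ι hι hC h4 hr hg
    · refine pure_odd P hnil ι hι hC p (fun h0 => hp2 ?_) hr hg
      refine (Nat.prime_dvd_prime_iff_eq Fact.out Nat.prime_two).mp ?_
      exact (CharP.cast_eq_zero_iff F p 2).mp (by exact_mod_cast h0)
  have hinj := EvenCyclicNorm.autHom_injective ι hι hC
  have hshift : ∀ (f : MulAut PSL) (x : PSL), f * MulAut.conj x = MulAut.conj (f x) * f := fun f x =>
    MulEquiv.ext fun y => by simp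
  have hdil : ∀ (g : G), ∃ g' : G, ∃ c : Fˣ, φ g' = diagAut (dil c) * fieldHom (fieldPart p (φ g)) := by
    intro g
    obtain ⟨D, e, hDe⟩ := PSL2.exists_diag_field p (φ g)
    rw [PSL2.fieldPart_eq p hDe]
    obtain ⟨c, A, rfl⟩ := PSL2.exists_dil_mul D
    refine ⟨g * ι ((fieldAut e).symm (mk A))⁻¹, c, ?_⟩
    show φ _ = _
    rw [map_mul, show φ (ι _) = _ from EvenCyclicNorm.autHom_inner ι hι _, hDe, map_mul, PSL2.diagAut_toGL, mul_assoc,
      hshift (fieldAut e), map_inv (fieldAut e), MulEquiv.apply_symm_apply, ← mul_assoc, mul_assoc _ (MulAut.conj (mk A)),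
      ← map_mul, mul_inv_cancel, map_one, mul_one]
    rfl
  have hsqadj : ∀ (g : G) (c d : Fˣ) (e : RingAut F), φ g = diagAut (dil c) * fieldHom e →
      φ (ι (dHom d) * g) = diagAut (dil (d * d * c)) * fieldHom e := fun g c d e he => by
    rw [map_mul, show φ (ι _) = _ from EvenCyclicNorm.autHom_inner ι hι _, he, ← EvenCyclicNorm.diagAut_dil_sq, ← mul_assoc, ← map_mul, ← map_mul]
  by_cases hfield : ((fieldPart p).comp φ).range = ⊥
  swap
  · exfalso
    obtain ⟨e, ⟨g₁, hg₁⟩, hr⟩ := EvenCyclicNorm.exists_prime_mem hfield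
    obtain ⟨g, c, hgc⟩ := hdil g₁
    rw [show fieldPart p (φ g₁) = e from hg₁] at hgc
    obtain ⟨ζ, hζ⟩ := IsCyclic.exists_generator (α := Fˣ)
    by_cases hc : ∃ d : Fˣ, d * d * c = 1
    · obtain ⟨d, hd⟩ := hc
      exact hpure (ι (dHom d) * g) e hr
        (by rw [show autHom ι hι _ = _ from hsqadj g c d e hgc, hd, map_one, map_one, one_mul])
    have h2 : (2 : F) ≠ 0 := by
      intro h0
      refine hc ?_
      obtain ⟨b, hb⟩ := FiniteField.isSquare_of_char_two
        (CharP.ringChar_of_prime_eq_zero Nat.prime_two (by exact_mod_cast h0)) ((c⁻¹ : Fˣ) : F)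
      have hb0 : b ≠ 0 := fun e1 => by rw [e1, mul_zero] at hb; exact Units.ne_zero _ hb
      exact ⟨Units.mk0 b hb0, Units.ext (by simp [← hb])⟩
    rcases hr.eq_two_or_odd' with hr2 | hrodd
    · -- move `c` to the generator
      have hidx : (powMonoidHom 2 : Fˣ →* Fˣ).range.index ∣ 2 := by
        rw [IsCyclic.index_powMonoidHom_range]; exact Nat.gcd_dvd_right _ _
      have hcn : c⁻¹ ∉ (powMonoidHom 2 : Fˣ →* Fˣ).range := by
        rintro ⟨d, hd⟩
        exact hc ⟨d, by rw [← pow_two, show d ^ 2 = c⁻¹ from hd, inv_mul_cancel]⟩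
      have hζn : ζ ∉ (powMonoidHom 2 : Fˣ →* Fˣ).range := fun hm => hcn (by
        obtain ⟨k, hk⟩ := hζ c⁻¹
        exact hk ▸ zpow_mem hm k)
      have hidx2 : (powMonoidHom 2 : Fˣ →* Fˣ).range.index = 2 :=
        ((Nat.dvd_prime Nat.prime_two).mp hidx).resolve_left fun h3 => hζn (by
          rw [index_eq_one] at h3; rw [h3]; exact mem_top _)
      obtain ⟨d, hd⟩ : c⁻¹ * ζ ∈ (powMonoidHom 2 : Fˣ →* Fˣ).range :=
        (mul_mem_iff_of_index_two hidx2).mpr ⟨fun h' => absurd h' hcn, fun h' => absurd h' hζn⟩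
      refine mixed P hnil ι hι hC p h2 hr2 hζ (g := ι (dHom d) * g) ?_
      rw [show autHom ι hι _ = _ from hsqadj g c d e hgc]
      congr 3
      rw [← pow_two, show d ^ 2 = c⁻¹ * ζ from hd, mul_comm, mul_inv_cancel_left]
    · -- the square is pure
      have hcn : c⁻¹ ∉ (powMonoidHom 2 : Fˣ →* Fˣ).range := by
        rintro ⟨d, hd⟩
        exact hc ⟨d, by rw [← pow_two, show d ^ 2 = c⁻¹ from hd, inv_mul_cancel]⟩
      set eU : Fˣ →* Fˣ := Units.map (e : F →* F)
      have hmap : GeneralLinearGroup.map (e : F ≃+* F).toRingHom (dil c) = dil (eU c) := Units.ext (by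
        ext i j
        fin_cases i <;> fin_cases j <;> simp [dil, eU])
      have hgg : φ (g * g) = diagAut (dil (c * eU c)) * fieldHom (e * e) := by
        rw [map_mul, hgc]
        calc diagAut (dil c) * fieldHom e * (diagAut (dil c) * fieldHom e)
            = diagAut (dil c) * (fieldAut e * diagAut (dil c)) * fieldHom e := by simp only [mul_assoc]; rfl
          _ = diagAut (dil (c * eU c)) * (fieldHom e * fieldHom e) := by
              rw [PSL2.fieldAut_mul_diagAut, hmap, map_mul, map_mul]; simp only [mul_assoc]; rfl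
          _ = diagAut (dil (c * eU c)) * fieldHom (e * e) := by rw [map_mul (fieldHom (F := F))]
      have hidx : (powMonoidHom 2 : Fˣ →* Fˣ).range.index = 2 := by
        have h1 : (powMonoidHom 2 : Fˣ →* Fˣ).range.index ∣ 2 := by
          rw [IsCyclic.index_powMonoidHom_range]; exact Nat.gcd_dvd_right _ _
        refine ((Nat.dvd_prime Nat.prime_two).mp h1).resolve_left fun h3 => hcn ?_
        rw [index_eq_one] at h3; rw [h3]; exact mem_top _
      have heUc : (eU c)⁻¹ ∉ (powMonoidHom 2 : Fˣ →* Fˣ).range := by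
        rintro ⟨b, hb⟩
        refine hcn ⟨Units.map ((e : F ≃+* F).symm : F →* F) b, ?_⟩
        rw [powMonoidHom_apply] at hb ⊢
        rw [← map_pow, hb, map_inv]
        congr 1
        exact Units.ext ((e : F ≃+* F).symm_apply_apply _)
      obtain ⟨d, hd⟩ : c⁻¹ * (eU c)⁻¹ ∈ (powMonoidHom 2 : Fˣ →* Fˣ).range :=
        (mul_mem_iff_of_index_two hidx).mpr ⟨fun h' => absurd h' hcn, fun h' => absurd h' heUc⟩
      have hcop : (orderOf e).Coprime 2 := Nat.coprime_two_right.mpr hrodd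
      refine hpure (ι (dHom d) * (g * g)) (e * e) (by rw [← pow_two, hcop.orderOf_pow]; exact hr) ?_
      rw [show autHom ι hι _ = _ from hsqadj _ _ d _ hgg, show d * d * (c * eU c) = 1 by
        rw [← pow_two, show d ^ 2 = c⁻¹ * (eU c)⁻¹ from hd, mul_mul_mul_comm, inv_mul_cancel, inv_mul_cancel, one_mul],
        map_one, map_one, one_mul]
  -- no field part
  have hgen : ∀ g : G, ∃ (c : Fˣ) (A : SL), φ g = diagAut (dil c * SpecialLinearGroup.toGL A) := by
    intro g
    obtain ⟨D, hD⟩ := PSL2.exists_of_fieldPart_eq_one p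
      (mem_bot.mp (hfield ▸ ⟨g, rfl⟩ : fieldPart p (φ g) ∈ (⊥ : Subgroup (RingAut F))))
    obtain ⟨c, A, rfl⟩ := PSL2.exists_dil_mul D
    exact ⟨c, A, hD⟩
  by_cases hall : ∀ g : G, ∃ x, φ g = MulAut.conj x
  · left
    refine ⟨(MulEquiv.ofBijective ι ⟨hι, fun g => ?_⟩).symm⟩
    obtain ⟨x, hx⟩ := hall g
    exact ⟨x, hinj (by rw [show φ (ι x) = _ from EvenCyclicNorm.autHom_inner ι hι x, hx])⟩
  right
  push Not at hall
  obtain ⟨g₀, hg₀⟩ := hall
  obtain ⟨c₀, A₀, hA₀⟩ := hgen g₀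
  have hc₀ : c₀ ∉ (powMonoidHom 2 : Fˣ →* Fˣ).range := fun hm => by
    obtain ⟨x, hx⟩ := (PSL2.dil_inner_iff c₀).mpr hm
    exact hg₀ (x * mk A₀) (by rw [hA₀, map_mul, hx, PSL2.diagAut_toGL, map_mul])
  have hrange : φ.range = (diagAut (F := F)).range := by
    refine le_antisymm ?_ ?_
    · rintro _ ⟨g, rfl⟩
      obtain ⟨c, A, hA⟩ := hgen g
      exact ⟨_, hA.symm⟩
    · rintro _ ⟨D, rfl⟩
      obtain ⟨c, A, rfl⟩ := PSL2.exists_dil_mul D
      have hin : ∀ x, MulAut.conj x ∈ φ.range := fun x => ⟨ι x, EvenCyclicNorm.autHom_inner ι hι x⟩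
      have hdc₀ : diagAut (dil c₀) ∈ φ.range := by
        have h1 : φ g₀ * (MulAut.conj (mk A₀))⁻¹ ∈ φ.range := mul_mem ⟨g₀, rfl⟩ (inv_mem (hin _))
        rwa [hA₀, map_mul, PSL2.diagAut_toGL, mul_inv_cancel_right] at h1
      have hdil' : diagAut (dil c) ∈ φ.range := by
        by_cases hc : c ∈ (powMonoidHom 2 : Fˣ →* Fˣ).range
        · obtain ⟨x, hx⟩ := (PSL2.dil_inner_iff c).mpr hc
          rw [hx]; exact hin x
        · have hidx : (powMonoidHom 2 : Fˣ →* Fˣ).range.index = 2 := by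
            have h1 : (powMonoidHom 2 : Fˣ →* Fˣ).range.index ∣ 2 := by
              rw [IsCyclic.index_powMonoidHom_range]; exact Nat.gcd_dvd_right _ _
            refine ((Nat.dvd_prime Nat.prime_two).mp h1).resolve_left fun h3 => hc₀ ?_
            rw [index_eq_one] at h3; rw [h3]; exact mem_top _
          have hm : c * c₀⁻¹ ∈ (powMonoidHom 2 : Fˣ →* Fˣ).range :=
            (mul_mem_iff_of_index_two hidx).mpr ⟨fun h' => absurd h' hc, fun h' => absurd (inv_mem_iff.mp h') hc₀⟩
          obtain ⟨x, hx⟩ := (PSL2.dil_inner_iff _).mpr hm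
          have h2 := mul_mem (hin x) hdc₀
          rwa [← hx, ← map_mul, ← map_mul, inv_mul_cancel_right] at h2
      rw [map_mul, PSL2.diagAut_toGL]
      exact mul_mem hdil' (hin _)
  have hact : Function.Injective (PSL2Max.act (F := F)) := by
    rw [injective_iff_map_eq_one]
    intro x hx
    obtain ⟨D, rfl⟩ := Matrix.ProjGenLinGroup.mk_surjective x
    have h1 : diagAut D = fieldAut (RingEquiv.refl F) := hx.trans PSL2.fieldAut_refl.symm
    obtain ⟨-, r, hr⟩ := PSL2.scalar_of_fix _ _ h1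
    exact PSL2Max.pgm_one_of_scalar (z := r) (by rw [hr]; ext i j; by_cases hij : i = j <;> simp [hij])
  have hrange2 : (PSL2Max.act (F := F)).range = (diagAut (F := F)).range := by
    ext x
    constructor
    · rintro ⟨y, rfl⟩
      obtain ⟨D, rfl⟩ := Matrix.ProjGenLinGroup.mk_surjective y
      exact ⟨D, rfl⟩
    · rintro ⟨D, rfl⟩
      exact ⟨PSL2Max.pgm D, rfl⟩
  refine ⟨?_, ⟨((MonoidHom.ofInjective hinj).trans (MulEquiv.subgroupCongr (hrange.trans hrange2.symm))).trans
    (MonoidHom.ofInjective hact).symm⟩⟩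
  refine FiniteField.odd_card_of_char_ne_two (fun hc2 => hc₀ ?_) |> fun h => Nat.odd_iff.mpr h
  obtain ⟨b, hb⟩ := FiniteField.isSquare_of_char_two hc2 ((c₀ : Fˣ) : F)
  have hb0 : b ≠ 0 := fun e1 => by rw [e1, mul_zero] at hb; exact Units.ne_zero _ hb
  exact ⟨Units.mk0 b hb0, Units.ext (by simp [hb, pow_two])⟩

end Range

/-- A group with a partition and a normal `PSL₂` with trivial centraliser. -/
theorem almost_psl {G : Type u} [Group G] [Finite G] (P : Part G)
    (hnil : ∀ a : G, a ≠ 1 → Group.IsNilpotent (P.comp a)) (T : Subgroup G) [hT : T.Normal] {F₀ : Type} [Field F₀]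
    [Fintype F₀] (hF₀ : 4 ≤ Fintype.card F₀) (e₀ : T ≃* Matrix.ProjectiveSpecialLinearGroup (Fin 2) F₀)
    (hC : centralizer (T : Set G) = ⊥) :
    (∃ (F : Type) (_ : Field F) (_ : Fintype F), 4 ≤ Fintype.card F ∧
      Nonempty (G ≃* Matrix.ProjectiveSpecialLinearGroup (Fin 2) F)) ∨
    (∃ (F : Type) (_ : Field F) (_ : Fintype F), 5 ≤ Fintype.card F ∧ Odd (Fintype.card F) ∧
      Nonempty (G ≃* (GL (Fin 2) F ⧸ Subgroup.center (GL (Fin 2) F)))) := by
  obtain ⟨F, i3, i4, hF4, ⟨e⟩⟩ : ∃ (F : Type) (_ : Field F) (_ : Fintype F), 4 < Fintype.card F ∧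
      Nonempty (T ≃* Matrix.ProjectiveSpecialLinearGroup (Fin 2) F) := by
    by_cases h : Fintype.card F₀ = 4
    · haveI : Fact (Nat.Prime 5) := ⟨Nat.prime_five⟩
      obtain ⟨i⟩ := CTwoAbelian.psl_four_five h
      exact ⟨ZMod 5, inferInstance, inferInstance, by rw [ZMod.card]; norm_num, ⟨e₀.trans i⟩⟩
    · exact ⟨F₀, inferInstance, inferInstance, by omega, ⟨e₀⟩⟩
  letI := i3
  letI := i4
  set ι := T.subtype.comp e.symm.toMonoidHom
  have hr : ι.range = T := by
    ext x
    exact ⟨fun ⟨z, hz⟩ => hz ▸ (e.symm z).2, fun hx => ⟨e ⟨x, hx⟩, by simp [ι]⟩⟩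
  haveI : ι.range.Normal := by rw [hr]; exact hT
  rcases of_psl P hnil ι (T.subtype_injective.comp e.symm.injective) (by rw [hr]; exact hC) hF4 with h | ⟨hodd, h⟩
  · exact Or.inl ⟨F, i3, i4, hF4.le, h⟩
  · exact Or.inr ⟨F, i3, i4, hF4, hodd, h⟩

end CfsgLib.Partition
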