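import Cfsg.Agent.Lib.Partition.Parts
import Cfsg.Agent.Lib.Suzuki.Aut
import Cfsg.Agent.Lib.Suzuki.Lie
import Cfsg.Prelude.Def_Sz

/-!
A group with a partition over a Suzuki group is a Suzuki group.
-/

set_option autoImplicit false
set_option linter.unusedSectionVars false
set_option linter.style.haveILetI false

namespace CfsgLib.Partition

open Subgroup
open CfsgLib.Suzuki (uS wS fAut)
open CfsgLib.Involutions (mul_self_eq_one_of_orderOf inv_eq_self_of_orderOf)

universe u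

section Fixed

variable {F : Type} [Field F] [Fintype F] {m : ℕ} (hF : Fintype.card F = 2 ^ (2 * m + 1))
include hF

theorem fAut_wS (hm : 1 ≤ m) (i : ℕ) : fAut hF hm i (wS hF) = wS hF :=
  Subtype.ext (Suzuki.map_wEl hF i)

theorem uS_four_five :
    uS hF (1 : F) 0 * uS hF 1 0 = uS hF 0 1 ∧ uS hF (0 : F) 1 * uS hF 0 1 = 1 ∧ uS hF (0 : F) 1 ≠ 1 ∧
      (wS hF * uS hF 0 1) ^ 5 = 1 ∧ wS hF * uS hF (0 : F) 1 ≠ 1 := by
  haveI : Fact (Nat.Prime 2) := ⟨Nat.prime_two⟩
  haveI : CharP F 2 := charP_of_card_eq_prime_pow (f := 2 * m + 1) hF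
  have h1 : Suzuki.th m (1 : F) = 1 := one_pow _
  have h0 : Suzuki.th m (0 : F) = 0 := zero_pow (Nat.pow_pos two_pos).ne'
  have hM : ((Suzuki.wEl * Suzuki.uEl m (0 : F) 1 : Matrix.SpecialLinearGroup (Fin 4) F) :
      Matrix (Fin 4) (Fin 4) F) = !![0, 0, 0, 1; 0, 0, 1, 0; 0, 1, 0, 1; 1, 0, 1, 1] := by
    rw [Matrix.SpecialLinearGroup.coe_mul]
    show Suzuki.mW * Suzuki.mU m (0 : F) 1 = _
    simp only [Suzuki.mW, Suzuki.mU, Suzuki.fp, h0, h1]
    ext i j
    fin_cases i <;> fin_cases j <;> simp [Matrix.mul_apply, Fin.sum_univ_four]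
  refine ⟨?_, ?_, fun e => ?_, ?_, fun e => ?_⟩
  · rw [Suzuki.uS_mul, CharTwo.add_self_eq_zero, h1]
    simp
  · rw [Suzuki.uS_mul, h0, zero_mul, add_zero, add_zero, CharTwo.add_self_eq_zero, Suzuki.uS_zero]
  · rw [← Suzuki.uS_zero (hF := hF)] at e
    exact one_ne_zero (Suzuki.uS_inj hF e).2
  · refine Subtype.ext ?_
    show (Suzuki.wEl * Suzuki.uEl m (0 : F) 1) ^ 5 = 1
    have h5 : (!![0, 0, 0, 1; 0, 0, 1, 0; 0, 1, 0, 1; 1, 0, 1, 1] : Matrix (Fin 4) (Fin 4) F) ^ 5 = 1 := by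
      ext i j
      fin_cases i <;> fin_cases j <;>
        simp [pow_succ, Matrix.mul_apply, Fin.sum_univ_four, CharTwo.add_self_eq_zero]
    apply Matrix.SpecialLinearGroup.ext
    intro i j
    rw [Matrix.SpecialLinearGroup.coe_pow, hM, h5, Matrix.SpecialLinearGroup.coe_one]
  · have e1 : Suzuki.wEl * Suzuki.uEl m (0 : F) 1 = (1 : Matrix.SpecialLinearGroup (Fin 4) F) :=
      congrArg Subtype.val e
    rw [e1, Matrix.SpecialLinearGroup.coe_one] at hM
    simpa using congrFun (congrFun hM 0) 0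

end Fixed

/-- A group with a partition and a normal Suzuki group with trivial centraliser is this Suzuki group. -/
theorem almost_suzuki {G : Type u} [Group G] [Finite G] (P : Part G)
    (hnil : ∀ a : G, a ≠ 1 → Group.IsNilpotent (P.comp a)) (T : Subgroup G) [T.Normal]
    (hT : Cfsg.Lie.IsoSuzuki T) (hC : centralizer (T : Set G) = ⊥) : Cfsg.Lie.IsoSuzuki G := by
  classical
  obtain ⟨F, iF, iFt, m, hm, hF, ⟨e'⟩⟩ := hT
  haveI : Fact (Nat.Prime 2) := ⟨Nat.prime_two⟩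
  set e : T ≃* ↥(Cfsg.Sz F m) := e'.trans (Suzuki.lieEquiv hF hm).symm with he
  by_cases htop : T = ⊤
  · exact ⟨F, iF, iFt, m, hm, hF,
      ⟨((Subgroup.topEquiv (G := G)).symm.trans (MulEquiv.subgroupCongr htop).symm).trans e'⟩⟩
  exfalso
  obtain ⟨y, hy⟩ : ∃ y : G, y ∉ T := by
    by_contra hh
    push Not at hh
    exact htop ((Subgroup.eq_top_iff' T).mpr hh)
  obtain ⟨g₀, i, hi⟩ := Suzuki.aut_eq hF hm (MulAut.congr e (MulAut.conjNormal y))
  set z : G := ((e.symm g₀ : T) : G)⁻¹ * y with hz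
  have hz1 : z ≠ 1 := fun e1 => hy (by
    rw [← inv_mul_eq_one.mp e1]
    exact (e.symm g₀).2)
  have hfix : ∀ x : ↥(Cfsg.Sz F m), fAut hF hm i x = x → Commute ((e.symm x : T) : G) z := by
    intro x hx
    have h1 := MulEquiv.congr_fun hi x
    rw [MulAut.mul_apply, hx, MulAut.conj_apply] at h1
    have h2 : MulAut.conjNormal y (e.symm x) = e.symm (g₀ * x * g₀⁻¹) := by
      apply e.injective
      rw [e.apply_symm_apply, ← h1]
      rfl
    have h3 := congrArg Subtype.val h2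
    rw [MulAut.conjNormal_apply, map_mul, map_mul, map_inv, Subgroup.coe_mul, Subgroup.coe_mul, Subgroup.coe_inv] at h3
    show ((e.symm x : T) : G) * z = z * (e.symm x : T)
    calc ((e.symm x : T) : G) * z
        = ((e.symm g₀ : T) : G)⁻¹ * (((e.symm g₀ : T) : G) * (e.symm x : T) * ((e.symm g₀ : T) : G)⁻¹) * y := by
          rw [hz]; group
      _ = z * (e.symm x : T) := by rw [← h3, hz]; group
  obtain ⟨h40, h20, hu1, h5, hwu⟩ := uS_four_five hF
  set U := ((e.symm (uS hF 1 0) : T) : G) with hU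
  set V := ((e.symm (uS hF 0 1) : T) : G) with hV
  set W := ((e.symm (wS hF) : T) : G) with hW
  have hUV : U * U = V := by rw [hU, hV, ← Subgroup.coe_mul, ← map_mul, h40]
  have hVV : V * V = 1 := by rw [hV, ← Subgroup.coe_mul, ← map_mul, h20, map_one, Subgroup.coe_one]
  have hWW : W * W = 1 := by rw [hW, ← Subgroup.coe_mul, ← map_mul, Suzuki.wS_mul_self, map_one, Subgroup.coe_one]
  have hWV : (W * V) ^ 5 = 1 := by
    rw [hW, hV, ← Subgroup.coe_mul, ← map_mul, ← Subgroup.coe_pow, ← map_pow, h5, map_one, Subgroup.coe_one]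
  have hWV1 : W * V ≠ 1 := fun e1 => hwu (e.symm.injective (Subtype.ext (by
    rw [map_mul, Subgroup.coe_mul, ← hW, ← hV, e1, map_one, Subgroup.coe_one])))
  have hV1 : V ≠ 1 := fun e1 => hu1 (e.symm.injective (Subtype.ext (by rw [← hV, e1, map_one, Subgroup.coe_one])))
  set L := P.comp z with hL
  have hzL := P.self_mem z hz1
  have hUo : ¬ (orderOf U).Prime := fun hp => by
    have h4 : U ^ 4 = 1 := by rw [show (4 : ℕ) = 2 * 2 by norm_num, pow_mul, pow_two U, hUV, pow_two, hVV]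
    have := (Nat.prime_dvd_prime_iff_eq hp Nat.prime_two).mp
      (hp.dvd_of_dvd_pow (show _ ∣ 2 ^ 2 from orderOf_dvd_of_pow_eq_one (by simpa using h4)))
    rw [mul_self_eq_one_of_orderOf this] at hUV
    exact hV1 hUV.symm
  have hUL : U ∈ L := P.mem_of_composite hz1 hzL hz1
    (hfix _ (by rw [Suzuki.fAut_uS, one_pow, zero_pow (Nat.pow_pos two_pos).ne'])) hUo
  have hVL : V ∈ L := hUV ▸ mul_mem hUL hUL
  have hWz : Commute W z := hfix _ (fAut_wS hF hm i)
  have hW1 : W ≠ 1 := fun e1 => by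
    rw [e1, one_mul] at hWV hWV1
    rw [show (5 : ℕ) = 2 * 2 + 1 by norm_num, pow_succ, pow_mul, pow_two V, hVV, one_pow, one_mul] at hWV
    exact hWV1 hWV
  have hWo : orderOf W = 2 := Involutions.orderOf_eq_two_iff'.mpr ⟨hWW, hW1⟩
  have hkey : ∀ k, (W * V) ^ 2 ^ k = 1 → False := fun k hk => hWV1 (by
    rw [← orderOf_eq_one_iff]
    exact Nat.eq_one_of_dvd_coprimes (Nat.Coprime.pow_right k (by norm_num : Nat.Coprime 5 2))
      (orderOf_dvd_of_pow_eq_one hWV) (orderOf_dvd_of_pow_eq_one hk))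
  by_cases hWL : W ∈ L
  · obtain ⟨k, hk⟩ := mul_primary (hnil z hz1) hWL hVL (p := 2) (i := 1) (j := 1)
      (by rw [pow_one, pow_two, hWW]) (by rw [pow_one, pow_two, hVV])
    exact hkey k hk
  · have h1 := P.inverts hz1 hWo (P.mem_normalizer_of_commute hz1 hzL hz1 hWz) hWL hVL
    rw [inv_eq_self_of_orderOf hWo, inv_eq_of_mul_eq_one_right hVV] at h1
    exact hkey 1 (by rw [pow_one, pow_two, ← mul_assoc, h1, hVV])

end CfsgLib.Partition
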