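import Cfsg.Prelude.Def_Solvable
import Cfsg.Agent.Lib.Involutions
import Cfsg.Agent.Lib.Elementary
import Cfsg.Agent.Lib.Frobenius.Splitting

/-!
Groups with a non-trivial partition: the invariant refinement and the elementary properties of the components.
-/

set_option autoImplicit false
set_option linter.unusedSectionVars false
set_option linter.style.haveILetI false

namespace CfsgLib.Partition

open Subgroup
open scoped Pointwise

universe u

/-- An invariant non-trivial partition, given by the component of each element. -/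
structure Part (G : Type u) [Group G] where
  /-- The component of an element. -/
  comp : G → Subgroup G
  self_mem : ∀ g, g ≠ 1 → g ∈ comp g
  comp_eq : ∀ g h, g ≠ 1 → h ≠ 1 → h ∈ comp g → comp h = comp g
  conj_iff : ∀ a g x, g ≠ 1 → (x ∈ comp g ↔ a * x * a⁻¹ ∈ comp (a * g * a⁻¹))
  proper : ∀ g, g ≠ 1 → comp g ≠ ⊤

variable {G : Type u} [Group G]

/-- Every partition refines to an invariant one. -/
theorem exists_part (S : Set (Subgroup G)) (hS2 : ∃ H ∈ S, ∃ K ∈ S, H ≠ K) (hS1 : ∀ H ∈ S, H ≠ ⊥)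
    (hpart : ∀ g : G, g ≠ 1 → ∃! H : Subgroup G, H ∈ S ∧ g ∈ H) : Nonempty (Part G) := by
  classical
  let C : G → Subgroup G := fun g => if h : g ≠ 1 then (hpart g h).choose else ⊥
  have hC : ∀ g, g ≠ 1 → C g ∈ S ∧ g ∈ C g := fun g hg => by
    simp only [C, dif_pos hg]
    exact (hpart g hg).choose_spec.1
  have hU : ∀ g h, g ≠ 1 → h ≠ 1 → h ∈ C g → C h = C g := fun g h hg hh hm =>
    (hpart h hh).unique (hC h hh) ⟨(hC g hg).1, hm⟩
  have hne : ∀ a g : G, g ≠ 1 → a * g * a⁻¹ ≠ 1 := fun a g hg e => hg (by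
    calc g = a⁻¹ * (a * g * a⁻¹) * a := by group
      _ = 1 := by rw [e]; group)
  refine ⟨⟨fun g => ⨅ a : G, (C (a * g * a⁻¹)).comap (MulAut.conj a).toMonoidHom, fun g hg => ?_, ?_, ?_, ?_⟩⟩
  · exact Subgroup.mem_iInf.mpr fun a => (hC _ (hne a g hg)).2
  · intro g h hg hh hm
    refine iInf_congr fun a => ?_
    rw [hU (a * g * a⁻¹) (a * h * a⁻¹) (hne a g hg) (hne a h hh) (Subgroup.mem_iInf.mp hm a)]
  · intro a g x hg
    simp only [Subgroup.mem_iInf, Subgroup.mem_comap, MulEquiv.coe_toMonoidHom, MulAut.conj_apply]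
    constructor
    · intro h b
      have := h (b * a)
      simpa [mul_assoc] using this
    · intro h b
      have := h (b * a⁻¹)
      simpa [mul_assoc] using this
  · intro g hg htop
    obtain ⟨H, hH, K, hK, hne'⟩ := hS2
    refine hne' ?_
    have key : ∀ L ∈ S, L = C g := by
      intro L hL
      obtain ⟨x, hx, hx1⟩ := L.bot_or_exists_ne_one.resolve_left (hS1 L hL)
      have : x ∈ C g := by
        have := Subgroup.mem_iInf.mp (htop ▸ Subgroup.mem_top x : x ∈ ⨅ a : G, (C (a * g * a⁻¹)).comap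
          (MulAut.conj a).toMonoidHom) 1
        simpa using this
      exact (hpart x hx1).unique ⟨hL, hx⟩ ⟨(hC g hg).1, this⟩
    rw [key H hH, key K hK]

namespace Part

variable (P : Part G)

/-- The partition induced on a subgroup not inside a component. -/
def restrict (H : Subgroup G) (hH : ∀ g ∈ H, g ≠ 1 → ¬ H ≤ P.comp g) : Part H where
  comp g := (P.comp g).subgroupOf H
  self_mem g hg := P.self_mem g (fun e => hg (Subtype.ext e))
  comp_eq g h hg hh hm :=
    congrArg (fun L => L.subgroupOf H) (P.comp_eq g h (fun e => hg (Subtype.ext e)) (fun e => hh (Subtype.ext e)) hm)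
  conj_iff a g x hg := P.conj_iff a g x (fun e => hg (Subtype.ext e))
  proper g hg e := hH g g.2 (fun e => hg (Subtype.ext e)) fun _ hx =>
    Subgroup.subgroupOf_eq_top.mp e hx

theorem restrict_comp (H : Subgroup G) (hH : ∀ g ∈ H, g ≠ 1 → ¬ H ≤ P.comp g) (g : H) :
    (P.restrict H hH).comp g = (P.comp g).subgroupOf H := rfl

theorem comp_pow {g : G} (hg : g ≠ 1) {n : ℕ} (hn : g ^ n ≠ 1) : P.comp (g ^ n) = P.comp g :=
  P.comp_eq g _ hg hn (pow_mem (P.self_mem g hg) n)

/-- Two components are equal or disjoint. -/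
theorem disjoint {a b x : G} (ha : a ≠ 1) (hb : b ≠ 1) (hne : P.comp a ≠ P.comp b) (hxa : x ∈ P.comp a)
    (hxb : x ∈ P.comp b) : x = 1 := by
  by_contra hx
  exact hne ((P.comp_eq a x ha hx hxa).symm.trans (P.comp_eq b x hb hx hxb))

/-- A power of an element outside a component which falls inside is trivial. -/
theorem pow_out {a y : G} (ha : a ≠ 1) (hy : y ∉ P.comp a) {n : ℕ} (hn : y ^ n ∈ P.comp a) : y ^ n = 1 := by
  by_contra h1
  have hy1 : y ≠ 1 := fun e => hy (e ▸ one_mem _)
  refine hy ?_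
  rw [← P.comp_eq a _ ha h1 hn, P.comp_pow hy1 h1]
  exact P.self_mem y hy1

theorem mem_normalizer_of_conj {a y h : G} (ha : a ≠ 1) (hh : h ∈ P.comp a) (hh1 : h ≠ 1)
    (hc : y * h * y⁻¹ ∈ P.comp a) : y ∈ normalizer (P.comp a : Set G) := by
  have h1 : y * h * y⁻¹ ≠ 1 := fun e => hh1 (by
    calc h = y⁻¹ * (y * h * y⁻¹) * y := by group
      _ = 1 := by rw [e]; group)
  have e1 : P.comp h = P.comp a := P.comp_eq a h ha hh1 hh
  have e2 : P.comp (y * h * y⁻¹) = P.comp a := P.comp_eq a _ ha h1 hc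
  refine Subgroup.mem_normalizer_iff.mpr fun x => ?_
  have := P.conj_iff y h x hh1
  rwa [e1, e2] at this

theorem mem_normalizer_of_commute {a y h : G} (ha : a ≠ 1) (hh : h ∈ P.comp a) (hh1 : h ≠ 1) (hc : Commute y h) :
    y ∈ normalizer (P.comp a : Set G) :=
  P.mem_normalizer_of_conj ha hh hh1 (by rw [hc.eq, mul_inv_cancel_right]; exact hh)

/-- Elements of two components normalising each other commute. -/
theorem commute_of_normalize {a b x y : G} (ha : a ≠ 1) (hb : b ≠ 1) (hne : P.comp a ≠ P.comp b)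
    (hx : x ∈ P.comp a) (hy : y ∈ P.comp b) (hy' : y ∈ normalizer (P.comp a : Set G))
    (hx' : x ∈ normalizer (P.comp b : Set G)) : Commute x y := by
  have h1 : y * x * y⁻¹ * x⁻¹ ∈ P.comp a := mul_mem ((Subgroup.mem_normalizer_iff.mp hy' x).mp hx) (inv_mem hx)
  have h2 : y * x * y⁻¹ * x⁻¹ ∈ P.comp b := by
    rw [mul_assoc, mul_assoc, ← mul_assoc x]
    exact mul_mem hy ((Subgroup.mem_normalizer_iff.mp hx' y⁻¹).mp (inv_mem hy))
  have h3 := P.disjoint ha hb hne h1 h2
  rw [mul_inv_eq_one, mul_inv_eq_iff_eq_mul] at h3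
  exact h3.symm

theorem coset_mem (H : Subgroup G) {y : G} (hy : y ∈ normalizer (H : Set G)) {h : G} (hh : h ∈ H) :
    ∀ k : ℕ, (h * y) ^ k * (y ^ k)⁻¹ ∈ H := by
  intro k
  induction k with
  | zero => simp
  | succ k ih =>
    have e : (h * y) ^ (k + 1) * (y ^ (k + 1))⁻¹ = (h * y) ^ k * (y ^ k)⁻¹ * (y ^ k * h * (y ^ k)⁻¹) := by
      rw [pow_succ, pow_succ]; group
    rw [e]
    exact mul_mem ih ((Subgroup.mem_normalizer_iff.mp (pow_mem hy k) h).mp hh)

/-- The coset of a component by an element normalising it has the exponent of that element modulo the component. -/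
theorem coset_pow {a y : G} (ha : a ≠ 1) (hy : y ∈ normalizer (P.comp a : Set G)) (hya : y ∉ P.comp a) {n : ℕ}
    (hn : y ^ n ∈ P.comp a) {h : G} (hh : h ∈ P.comp a) : (h * y) ^ n = 1 := by
  have hmem : (h * y) ^ n ∈ P.comp a := by
    have := mul_mem (coset_mem _ hy hh n) hn
    rwa [inv_mul_cancel_right] at this
  refine P.pow_out ha (fun hm => hya ?_) hmem
  have := mul_mem (inv_mem hh) hm
  rwa [inv_mul_cancel_left] at this

/-- An involution normalising a component from outside inverts it. -/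
theorem inverts {a u : G} (ha : a ≠ 1) (hu : orderOf u = 2) (hN : u ∈ normalizer (P.comp a : Set G))
    (hua : u ∉ P.comp a) {h : G} (hh : h ∈ P.comp a) : u * h * u⁻¹ = h⁻¹ := by
  have h1 := P.coset_pow ha hN hua (n := 2) (by rw [← hu, pow_orderOf_eq_one]; exact one_mem _) hh
  rw [pow_two] at h1
  rw [Involutions.inv_eq_self_of_orderOf hu, eq_inv_iff_mul_eq_one]
  calc u * h * u * h = h⁻¹ * (h * u * (h * u)) * h := by group
    _ = 1 := by rw [h1]; group

theorem comm_of_involution {a u : G} (ha : a ≠ 1) (hu : orderOf u = 2) (hN : u ∈ normalizer (P.comp a : Set G))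
    (hua : u ∉ P.comp a) {x y : G} (hx : x ∈ P.comp a) (hy : y ∈ P.comp a) : Commute x y := by
  have hx' := P.inverts ha hu hN hua (inv_mem hx)
  have hy' := P.inverts ha hu hN hua (inv_mem hy)
  have hxy := P.inverts ha hu hN hua (mul_mem (inv_mem hx) (inv_mem hy))
  rw [inv_inv] at hx' hy'
  rw [_root_.mul_inv_rev, inv_inv, inv_inv] at hxy
  show x * y = y * x
  calc x * y = u * x⁻¹ * u⁻¹ * (u * y⁻¹ * u⁻¹) := by rw [hx', hy']
    _ = u * (x⁻¹ * y⁻¹) * u⁻¹ := by group
    _ = y * x := hxy

variable [Finite G]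

theorem comp_eq_of_lt {x y : G} (hx : x ≠ 1) (hc : Commute x y) (hlt : orderOf x < orderOf y) :
    P.comp x = P.comp y := by
  have hy : y ≠ 1 := fun e => by rw [e, orderOf_one] at hlt; have := orderOf_pos x; omega
  have h1 : (x * y) ^ orderOf x = y ^ orderOf x := by rw [hc.mul_pow, pow_orderOf_eq_one, one_mul]
  have h2 : y ^ orderOf x ≠ 1 := fun e => by
    have := Nat.le_of_dvd (orderOf_pos x) (orderOf_dvd_of_pow_eq_one e)
    omega
  have hxy : x * y ≠ 1 := fun e => by
    rw [e, one_pow] at h1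
    exact h2 h1.symm
  have e1 : P.comp (x * y) = P.comp y := by
    rw [← P.comp_pow hxy (h1.symm ▸ h2), h1, P.comp_pow hy h2]
  refine P.comp_eq y x hy hx ?_
  have := mul_mem (e1 ▸ P.self_mem _ hxy) (inv_mem (P.self_mem y hy))
  rwa [mul_inv_cancel_right] at this

/-- Commuting elements of different components have the same prime order. -/
theorem comm_prime {x y : G} (hx : x ≠ 1) (hy : y ≠ 1) (hc : Commute x y) (hne : P.comp x ≠ P.comp y) :
    orderOf x = orderOf y ∧ (orderOf x).Prime := by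
  have heq : orderOf x = orderOf y := by
    rcases lt_trichotomy (orderOf x) (orderOf y) with h | h | h
    · exact absurd (P.comp_eq_of_lt hx hc h) hne
    · exact h
    · exact absurd (P.comp_eq_of_lt hy hc.symm h).symm hne
  refine ⟨heq, ?_⟩
  obtain ⟨d, hd, hdn⟩ := Nat.exists_prime_and_dvd (mt orderOf_eq_one_iff.mp hx)
  by_contra hnp
  have hlt : d < orderOf x := lt_of_le_of_ne (Nat.le_of_dvd (orderOf_pos x) hdn) fun e => hnp (e ▸ hd)
  have ho : orderOf (x ^ (orderOf x / d)) = d := orderOf_pow_orderOf_div (orderOf_pos x).ne' hdn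
  have h1 : x ^ (orderOf x / d) ≠ 1 := fun e => by rw [e, orderOf_one] at ho; exact hd.ne_one ho.symm
  exact hne ((P.comp_pow hx h1).symm.trans (P.comp_eq_of_lt h1 (hc.pow_left _) (by omega)))

/-- An element outside a component commuting with a non-trivial element inside. -/
theorem orderOf_of_commute {a y h : G} (ha : a ≠ 1) (hh : h ∈ P.comp a) (hh1 : h ≠ 1) (hy : y ∉ P.comp a)
    (hc : Commute y h) : orderOf y = orderOf h ∧ (orderOf y).Prime := by
  have hy1 : y ≠ 1 := fun e => hy (e ▸ one_mem _)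
  refine P.comm_prime hy1 hh1 hc fun e => hy ?_
  rw [← P.comp_eq a h ha hh1 hh, ← e]
  exact P.self_mem y hy1

theorem mem_of_commute {a y h : G} (ha : a ≠ 1) (hh : h ∈ P.comp a) (hh1 : h ≠ 1) (hc : Commute y h)
    (hne : orderOf y ≠ orderOf h) : y ∈ P.comp a :=
  by_contra fun hy => hne (P.orderOf_of_commute ha hh hh1 hy hc).1

theorem mem_of_composite {a y h : G} (ha : a ≠ 1) (hh : h ∈ P.comp a) (hh1 : h ≠ 1) (hc : Commute y h)
    (hnp : ¬ (orderOf y).Prime) : y ∈ P.comp a :=
  by_contra fun hy => hnp (P.orderOf_of_commute ha hh hh1 hy hc).2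

/-- A component different from its normaliser is nilpotent. -/
theorem nilpotent_of_normalizer {a y : G} (ha : a ≠ 1) (hy : y ∈ normalizer (P.comp a : Set G))
    (hya : y ∉ P.comp a) : Group.IsNilpotent (P.comp a) := by
  set H := P.comp a with hH
  have hy1 : y ≠ 1 := fun e => hya (e ▸ one_mem _)
  obtain ⟨r, hr, hrn⟩ := Nat.exists_prime_and_dvd (mt orderOf_eq_one_iff.mp hy1)
  set w := y ^ (orderOf y / r) with hw
  have hwo : orderOf w = r := orderOf_pow_orderOf_div (orderOf_pos y).ne' hrn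
  have hwN : w ∈ normalizer (H : Set G) := pow_mem hy _
  have hwH : w ∉ H := fun hm => by
    rw [show w = 1 from P.pow_out ha hya hm, orderOf_one] at hwo
    exact hr.ne_one hwo.symm
  set M := H ⊔ zpowers w with hM
  have hMn : M ≤ normalizer (H : Set G) := sup_le Subgroup.le_normalizer (Subgroup.zpowers_le.mpr hwN)
  haveI : (H.subgroupOf M).Normal := Subgroup.normal_subgroupOf_of_le_normalizer hMn
  have hHM : H ≤ M := le_sup_left
  have key : Group.IsNilpotent (H.subgroupOf M) := by
    refine CfsgLib.Frob.isNilpotent_of_pow_eq_one_outside hr (H.subgroupOf M) (fun e => hwH ?_) ?_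
    · exact Subgroup.subgroupOf_eq_top.mp e (Subgroup.mem_sup_right (mem_zpowers w))
    · rintro ⟨m, hm⟩ hmH
      have hm2 : m ∈ ((H ⊔ zpowers w : Subgroup G) : Set G) := hm
      rw [Subgroup.coe_mul_of_right_le_normalizer_left _ _ (Subgroup.zpowers_le.mpr hwN)] at hm2
      obtain ⟨h, hh, z, hz, rfl⟩ := hm2
      obtain ⟨i, rfl⟩ := mem_zpowers_iff.mp hz
      refine Subtype.ext ?_
      show (h * w ^ i) ^ r = 1
      refine P.coset_pow ha (zpow_mem hwN i) (fun hi => hmH (mul_mem hh hi)) ?_ hh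
      rw [← zpow_natCast, ← zpow_mul, mul_comm, zpow_mul, zpow_natCast, ← hwo, pow_orderOf_eq_one, one_zpow]
      exact one_mem _
  exact Group.nilpotent_of_mulEquiv (Subgroup.subgroupOfEquivOfLe hHM)

/-- A self-normalising component is a Frobenius complement. -/
theorem frobenius_of_self_normalizing {a : G} (ha : a ≠ 1) (h : normalizer (P.comp a : Set G) ≤ P.comp a) :
    Cfsg.IsFrobeniusComplement (P.comp a) := by
  refine ⟨fun e => ha ?_, P.proper a ha, fun g hg => (Subgroup.eq_bot_iff_forall _).mpr fun x hx => ?_⟩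
  · have := P.self_mem a ha
    rwa [e, Subgroup.mem_bot] at this
  · obtain ⟨hxa, hxg⟩ := Subgroup.mem_inf.mp hx
    by_contra hx1
    rw [Subgroup.mem_pointwise_smul_iff_inv_smul_mem, MulAut.smul_def, MulAut.conj_inv_apply] at hxg
    refine hg (inv_mem_iff.mp (h (P.mem_normalizer_of_conj ha hxa hx1 ?_)))
    rwa [inv_inv]

/-- Without Frobenius complements every component is nilpotent. -/
theorem nilpotent (hF : ∀ C : Subgroup G, ¬ Cfsg.IsFrobeniusComplement C) {a : G} (ha : a ≠ 1) :
    Group.IsNilpotent (P.comp a) := by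
  obtain ⟨y, hy, hya⟩ : ∃ y ∈ normalizer (P.comp a : Set G), y ∉ P.comp a := by
    by_contra hh
    push Not at hh
    exact hF _ (P.frobenius_of_self_normalizing ha hh)
  exact P.nilpotent_of_normalizer ha hy hya

include P in
/-- A group of prime power order with a partition has a proper Hughes subgroup. -/
theorem hughes_of_pgroup {p : ℕ} [hp : Fact p.Prime] (hG : IsPGroup p G) (hnt : Nontrivial G) :
    Subgroup.closure {g : G | g ^ p ≠ 1} ≠ ⊤ := by
  haveI := hnt
  haveI := hG.center_nontrivial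
  have h1 : p ∣ Nat.card (center G) := by
    obtain ⟨k, hk⟩ := IsPGroup.iff_card.mp (hG.to_subgroup (center G))
    rw [hk]
    refine dvd_pow_self _ fun e => ?_
    have := Finite.one_lt_card (α := center G)
    rw [hk, e, pow_zero] at this
    omega
  obtain ⟨z, hz⟩ := exists_prime_orderOf_dvd_card' p h1
  have hz1 : (z : G) ≠ 1 := fun e => by
    rw [show z = 1 from Subtype.ext e, orderOf_one] at hz
    exact hp.out.ne_one hz.symm
  intro htop
  refine P.proper (z : G) hz1 (top_le_iff.mp (htop.ge.trans ?_))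
  rw [Subgroup.closure_le]
  intro g hg
  refine P.mem_of_commute hz1 (P.self_mem _ hz1) hz1 ((Subgroup.mem_center_iff.mp z.2 g) : _) fun e => hg ?_
  rw [Subgroup.orderOf_coe, hz] at e
  rw [← e, pow_orderOf_eq_one]

end Part

/-- An element commuting with fixed-point-freely acting elements: complement with trivial fixed points. -/
theorem frobenius_of_complement [Finite G] (V C : Subgroup G) [V.Normal] (hVC : Subgroup.IsComplement' V C)
    (hV : V ≠ ⊥) (hC : C ≠ ⊥) (hfix : ∀ c ∈ C, c ≠ 1 → ∀ v ∈ V, Commute c v → v = 1) :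
    Cfsg.IsFrobeniusComplement C := by
  refine ⟨hC, fun e => ?_, fun g hg => (Subgroup.eq_bot_iff_forall _).mpr fun x hx => ?_⟩
  · subst e
    exact hV (Subgroup.isComplement'_top_right.mp hVC)
  · obtain ⟨hxC, hxg⟩ := Subgroup.mem_inf.mp hx
    rw [Subgroup.mem_pointwise_smul_iff_inv_smul_mem, MulAut.smul_def, MulAut.conj_inv_apply] at hxg
    by_contra hx1
    obtain ⟨⟨⟨v, hv⟩, ⟨c, hc⟩⟩, rfl⟩ := hVC.2 g
    have hg' : v ≠ 1 := fun e => hg (by simpa [e] using hc)
    have hd : (v⁻¹ * x * v) ∈ C := by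
      have := mul_mem (mul_mem hc hxg) (inv_mem hc)
      convert this using 1
      show v⁻¹ * x * v = c * ((v * c)⁻¹ * x * (v * c)) * c⁻¹
      group
    have hvn : v⁻¹ * (x * v * x⁻¹) ∈ V := mul_mem (inv_mem hv) (Subgroup.Normal.conj_mem ‹_› v hv x)
    have hcC : v⁻¹ * (x * v * x⁻¹) ∈ C := by
      have := mul_mem hd (inv_mem hxC)
      convert this using 1
      group
    have h1 := Subgroup.disjoint_def.mp hVC.disjoint hvn hcC
    rw [inv_mul_eq_one, eq_mul_inv_iff_mul_eq] at h1
    exact hg' (hfix x hxC hx1 v hv h1.symm)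

end CfsgLib.Partition
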