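import Cfsg.Agent.Lib.Partition.Basic
import Cfsg.Agent.Lib.CIT.Basic
import Cfsg.Agent.Lib.BSW.Struct
import Cfsg.Agent.S0205

/-!
Partitions with a normal component.
-/

set_option autoImplicit false
set_option linter.unusedSectionVars false
set_option linter.style.haveILetI false

namespace CfsgLib.Partition

open Subgroup
open scoped Pointwise

universe u

variable {G : Type u} [Group G] [Finite G]

/-- The elements of order dividing `p` in the centre of a subgroup. -/
def omegaCenter (H : Subgroup G) (p : ℕ) : Subgroup G where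
  carrier := {x | x ∈ H ∧ (∀ h ∈ H, Commute h x) ∧ x ^ p = 1}
  one_mem' := ⟨one_mem _, fun h _ => Commute.one_right h, one_pow _⟩
  mul_mem' := fun {x y} hx hy => ⟨mul_mem hx.1 hy.1, fun h hh => (hx.2.1 h hh).mul_right (hy.2.1 h hh),
    by rw [(hy.2.1 x hx.1).mul_pow, hx.2.2, hy.2.2, one_mul]⟩
  inv_mem' := fun {x} hx => ⟨inv_mem hx.1, fun h hh => (hx.2.1 h hh).inv_right, by rw [inv_pow, hx.2.2, inv_one]⟩

theorem mem_omegaCenter {H : Subgroup G} {p : ℕ} {x : G} :
    x ∈ omegaCenter H p ↔ x ∈ H ∧ (∀ h ∈ H, Commute h x) ∧ x ^ p = 1 := Iff.rfl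

theorem omegaCenter_le (H : Subgroup G) (p : ℕ) : omegaCenter H p ≤ H := fun _ h => h.1

instance omegaCenter_comm (H : Subgroup G) (p : ℕ) : IsMulCommutative (omegaCenter H p) :=
  ⟨⟨fun x y => Subtype.ext (y.2.2.1 x x.2.1).eq⟩⟩

theorem omegaCenter_conj {H : Subgroup G} {p : ℕ} {g x : G} (hg : g ∈ normalizer (H : Set G))
    (hx : x ∈ omegaCenter H p) : g * x * g⁻¹ ∈ omegaCenter H p := by
  refine ⟨(Subgroup.mem_normalizer_iff.mp hg x).mp hx.1, fun h hh => ?_, by rw [conj_pow, hx.2.2]; group⟩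
  have h1 := hx.2.1 (g⁻¹ * h * g) ((Subgroup.mem_normalizer_iff.mp hg _).mpr (by simpa [mul_assoc] using hh))
  have h2 := h1.map (MulAut.conj g).toMonoidHom
  simpa [mul_assoc] using h2

instance omegaCenter_normal (H : Subgroup G) [H.Normal] (p : ℕ) : (omegaCenter H p).Normal :=
  ⟨fun _ hx g => omegaCenter_conj (by rw [Subgroup.normalizer_eq_top]; trivial) hx⟩

theorem isPGroup_omegaCenter (H : Subgroup G) (p : ℕ) : IsPGroup p (omegaCenter H p) :=
  fun x => ⟨1, Subtype.ext (by rw [pow_one]; exact x.2.2.2)⟩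

theorem omegaCenter_ne_bot {H : Subgroup G} {p : ℕ} [hp : Fact p.Prime] (hn : Group.IsNilpotent H)
    (hd : p ∣ Nat.card H) : omegaCenter H p ≠ ⊥ := by
  haveI := hn
  obtain ⟨R⟩ : Nonempty (Sylow p H) := inferInstance
  haveI : (R : Subgroup H).Normal := (Group.isNilpotent_of_finite_tfae (G := H)).out 0 3 rfl rfl |>.mp hn p inferInstance R
  have hne := CfsgLib.inf_center_ne_bot_of_nilpotent (G := H) (N := (R : Subgroup H)) (R.ne_bot_of_dvd_card hd)
  obtain ⟨x, hx, hx1⟩ := (Subgroup.bot_or_exists_ne_one _).resolve_left hne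
  obtain ⟨hxR, hxc⟩ := Subgroup.mem_inf.mp hx
  obtain ⟨k, hk⟩ := IsPGroup.iff_orderOf.mp R.isPGroup' ⟨x, hxR⟩
  rw [Subgroup.orderOf_mk] at hk
  have hpd : p ∣ orderOf x := by
    rw [hk]
    exact dvd_pow_self _ fun e => hx1 (orderOf_eq_one_iff.mp (by rw [hk, e, pow_zero]))
  have ho : orderOf (x ^ (orderOf x / p)) = p := orderOf_pow_orderOf_div (orderOf_pos x).ne' hpd
  intro hbot
  have hmem : ((x ^ (orderOf x / p) : H) : G) ∈ omegaCenter H p := ⟨(x ^ (orderOf x / p)).2, fun h hh => by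
    have h1 := (Subgroup.mem_center_iff.mp (pow_mem hxc (orderOf x / p))) ⟨h, hh⟩
    exact congrArg Subtype.val h1, by
      simpa using congrArg Subtype.val (orderOf_dvd_iff_pow_eq_one.mp ho.dvd)⟩
  rw [hbot, Subgroup.mem_bot] at hmem
  rw [show x ^ (orderOf x / p) = 1 from Subtype.ext hmem, orderOf_one] at ho
  exact hp.out.ne_one ho.symm

namespace Part

variable (P : Part G) {a : G} (ha : a ≠ 1) [hHn : (P.comp a).Normal]

include ha hHn

theorem nilpotent_of_outside {y : G} (hy : y ∉ P.comp a) : Group.IsNilpotent (P.comp a) :=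
  P.nilpotent_of_normalizer ha (by rw [Subgroup.normalizer_eq_top]; trivial) hy

theorem order_quot {g : G} (hg : g ∉ P.comp a) : orderOf (QuotientGroup.mk' (P.comp a) g) = orderOf g := by
  refine Nat.dvd_antisymm (orderOf_map_dvd _ g) (orderOf_dvd_of_pow_eq_one (P.pow_out ha hg ?_))
  have := pow_orderOf_eq_one (QuotientGroup.mk' (P.comp a) g)
  rw [← map_pow] at this
  exact (QuotientGroup.eq_one_iff _).mp this

/-- An element outside of order divisible by a prime divisor of the component has that order. -/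
theorem order_outside {p : ℕ} [hp : Fact p.Prime] (hd : p ∣ Nat.card (P.comp a)) {y : G} (hy : y ∉ P.comp a)
    (hpy : p ∣ orderOf y) : orderOf y = p := by
  have hy1 : y ≠ 1 := fun e => hy (e ▸ one_mem _)
  set H := P.comp a with hH
  set z := y ^ (orderOf y / p) with hz
  have hzo : orderOf z = p := orderOf_pow_orderOf_div (orderOf_pos y).ne' hpy
  have hz1 : z ≠ 1 := fun e => hp.out.ne_one (by rw [← hzo, e, orderOf_one])
  have hzH : z ∉ H := fun hm => hz1 (P.pow_out ha hy hm)
  set A := omegaCenter H p with hA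
  have hAne : A ≠ ⊥ := omegaCenter_ne_bot (P.nilpotent_of_outside ha hy) hd
  letI : MulAction (zpowers z) A :=
    MulAction.compHom A ((MulAut.conjNormal (H := A)).comp (zpowers z).subtype)
  have hzg : IsPGroup p (zpowers z) := IsPGroup.of_card (n := 1) (by rw [Nat.card_zpowers, hzo, pow_one])
  have hcard : p ∣ Nat.card A := by
    obtain ⟨k, hk⟩ := IsPGroup.iff_card.mp (isPGroup_omegaCenter H p)
    rw [hA, hk]
    refine dvd_pow_self _ fun e => hAne (Subgroup.card_eq_one.mp ?_)
    rw [hA, hk, e, pow_zero]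
  have h1mem : (1 : A) ∈ MulAction.fixedPoints (zpowers z) A := fun w => map_one (MulAut.conjNormal (H := A) (w : G))
  obtain ⟨v, hv, hv1⟩ := hzg.exists_fixed_point_of_prime_dvd_card_of_fixed_point (α := A) hcard h1mem
  have hvne : (v : G) ≠ 1 := fun e => hv1 (Subtype.ext e).symm
  have hzv : Commute z v := by
    have h := congrArg Subtype.val (hv ⟨z, mem_zpowers z⟩)
    have h' : z * v * z⁻¹ = v := by rw [← MulAut.conjNormal_apply]; exact h
    exact mul_inv_eq_iff_eq_mul.mp h'
  have hvH : (v : G) ∈ H := v.2.1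
  have hne : P.comp a ≠ P.comp y := fun e => hy (by rw [hH, e]; exact P.self_mem y hy1)
  have hvN : (v : G) ∈ normalizer (P.comp y : Set G) :=
    P.mem_normalizer_of_commute hy1 (pow_mem (P.self_mem y hy1) _) hz1 hzv.symm
  have hcm := P.commute_of_normalize ha hy1 hne hvH (P.self_mem y hy1)
    (by rw [Subgroup.normalizer_eq_top]; trivial) hvN
  obtain ⟨he, -⟩ := P.orderOf_of_commute ha hvH hvne hy hcm.symm
  rw [he]
  exact orderOf_eq_prime v.2.2.2 hvne

theorem not_mul_dvd {p r : ℕ} [hp : Fact p.Prime] (hd : p ∣ Nat.card (P.comp a)) (hr : r.Prime) (hrp : r ≠ p)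
    {g : G} (hg : g ∉ P.comp a) : ¬ p * r ∣ orderOf g := fun h => by
  have := P.order_outside ha hd hg ((dvd_mul_right p r).trans h)
  rw [this] at h
  exact hrp ((Nat.prime_dvd_prime_iff_eq hr hp.out).mp ((dvd_mul_left r p).trans h))

/-- An element of prime order outside normalises no subgroup of another prime order outside. -/
theorem no_inv {r s t : ℕ} [hr : Fact r.Prime] [hs : Fact s.Prime] [ht : Fact t.Prime] (hrs : r ≠ s) (hst : s ≠ t)
    (hdt : t ∣ Nat.card (P.comp a)) (hno : ∀ g : G, g ∉ P.comp a → ¬ r * s ∣ orderOf g) (S : Subgroup G)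
    (hS : IsPGroup s S) (hSH : ∃ y ∈ S, y ∉ P.comp a) {x : G} (hx : orderOf x = r) (hxH : x ∉ P.comp a)
    (hxS : x ∈ normalizer (S : Set G)) : False := by
  set H := P.comp a with hH
  set A := omegaCenter H t with hA
  have hAn : normalizer (A : Set G) = ⊤ := Subgroup.normalizer_eq_top A
  refine omegaCenter_ne_bot (P.nilpotent_of_outside ha hxH) hdt
    (CfsgLib.Frob.eq_one_of_norm hr.out (Z := A) (S := S) (x := x) (by rw [hAn]; exact le_top)
      (by rw [hAn]; trivial) hxS (fun k hk v hv => ?_) (IsPGroup.coprime_card_of_ne s t hst S A hS (isPGroup_omegaCenter H t)) ?_)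
  · obtain ⟨i, hi⟩ := IsPGroup.iff_orderOf.mp hS ⟨k, hk⟩
    rw [Subgroup.orderOf_mk] at hi
    have hkx : k * x ∉ H := fun hm => by
      have e : QuotientGroup.mk' H x = (QuotientGroup.mk' H k)⁻¹ := by
        rw [eq_inv_iff_mul_eq_one, mul_eq_one_comm, ← map_mul]
        exact (QuotientGroup.eq_one_iff _).mpr hm
      have h1 : orderOf (QuotientGroup.mk' H x) ∣ s ^ i := by
        rw [e, orderOf_inv, ← hi]; exact orderOf_map_dvd _ _
      rw [P.order_quot ha hxH, hx] at h1
      exact hrs ((Nat.prime_dvd_prime_iff_eq hr.out hs.out).mp (hr.out.dvd_of_dvd_pow h1))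
    have hmem : (k * x) ^ r ∈ S := by
      have h1 := coset_mem S hxS hk r
      rwa [← hx, pow_orderOf_eq_one, inv_one, mul_one, hx] at h1
    have hpow : (k * x) ^ r = 1 := by
      by_contra hne
      refine hno (k * x) hkx (Nat.Coprime.mul_dvd_of_dvd_of_dvd ?_ ?_ ?_)
      · exact (Nat.coprime_primes hr.out hs.out).mpr hrs
      · by_contra hnd
        have hcop : Nat.Coprime (orderOf (k * x)) r := ((hr.out.coprime_iff_not_dvd).mpr hnd).symm
        obtain ⟨m, hm⟩ := exists_pow_eq_self_of_coprime hcop.symm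
        obtain ⟨j, hj⟩ := IsPGroup.iff_orderOf.mp hS ⟨x, by
          have h2 : k * x ∈ S := hm ▸ pow_mem hmem m
          have := mul_mem (inv_mem hk) h2
          rwa [inv_mul_cancel_left] at this⟩
        rw [Subgroup.orderOf_mk, hx] at hj
        exact hrs ((Nat.prime_dvd_prime_iff_eq hr.out hs.out).mp (hr.out.dvd_of_dvd_pow (n := j) (hj ▸ dvd_refl r)))
      · obtain ⟨j, hj⟩ := IsPGroup.iff_orderOf.mp hS ⟨_, hmem⟩
        rw [Subgroup.orderOf_mk] at hj
        refine dvd_trans ?_ (orderOf_pow_dvd r)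
        rw [hj]
        exact dvd_pow_self _ fun e => hne (orderOf_eq_one_iff.mp (by rw [hj, e, pow_zero]))
    exact P.coset_pow ha (by rw [Subgroup.normalizer_eq_top]; trivial) hkx (hpow ▸ one_mem _) hv.1
  · refine (Subgroup.eq_bot_iff_forall _).mpr fun v hv => ?_
    obtain ⟨hvA, hvc⟩ := Subgroup.mem_inf.mp hv
    by_contra hv1
    obtain ⟨y, hyS, hyH⟩ := hSH
    have he := (P.orderOf_of_commute ha hvA.1 hv1 hyH (Subgroup.mem_centralizer_iff.mp hvc y hyS)).1
    obtain ⟨j, hj⟩ := IsPGroup.iff_orderOf.mp hS ⟨y, hyS⟩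
    rw [Subgroup.orderOf_mk, he, orderOf_eq_prime hvA.2.2 hv1] at hj
    exact hst ((Nat.prime_dvd_prime_iff_eq ht.out hs.out).mp (ht.out.dvd_of_dvd_pow (n := j) (hj ▸ dvd_refl t))).symm

/-- The same statement in the quotient by the component. -/
theorem no_inv_quot {r s t : ℕ} [hr : Fact r.Prime] [hs : Fact s.Prime] [ht : Fact t.Prime] (hrs : r ≠ s)
    (hst : s ≠ t) (hdt : t ∣ Nat.card (P.comp a)) (hno : ∀ g : G, g ∉ P.comp a → ¬ r * s ∣ orderOf g)
    (K : Subgroup (G ⧸ P.comp a)) (hK : IsPGroup s K) (hK1 : K ≠ ⊥) {τ : G ⧸ P.comp a} (hτ : orderOf τ = r)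
    (hτK : τ ∈ normalizer (K : Set (G ⧸ P.comp a))) : False := by
  classical
  set π := QuotientGroup.mk' (P.comp a) with hπ
  obtain ⟨x0, hx0⟩ := QuotientGroup.mk'_surjective (P.comp a) τ
  set M := K.comap π with hM
  obtain ⟨S⟩ : Nonempty (Sylow s M) := inferInstance
  have hconj : ∀ m, m ∈ M → x0 * m * x0⁻¹ ∈ M := fun m hm => by
    show π (x0 * m * x0⁻¹) ∈ K
    rw [map_mul, map_mul, map_inv, hx0]
    exact (Subgroup.mem_normalizer_iff.mp hτK _).mp hm
  have hx0M : x0 ∈ normalizer (M : Set G) := Subgroup.mem_normalizer_fintype hconj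
  set S0 := (S : Subgroup M).map M.subtype with hS0
  have hS0M : S0 ≤ M := Subgroup.map_subtype_le _
  have hS0p : IsPGroup s S0 := S.2.map _
  -- conjugate back into the Sylow subgroup
  set T := S0.map (MulAut.conj x0).toMonoidHom with hT
  have hTM : T ≤ M := by
    rintro _ ⟨m, hm, rfl⟩
    exact hconj m (hS0M hm)
  have hTcard : Nat.card (T.subgroupOf M) = Nat.card (S : Subgroup M) := by
    rw [Nat.card_congr (Subgroup.subgroupOfEquivOfLe hTM).toEquiv, hT, hS0,
      Subgroup.card_map_of_injective (MulEquiv.injective (MulAut.conj x0)),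
      Subgroup.card_map_of_injective M.subtype_injective]
  have hTp : IsPGroup s (T.subgroupOf M) :=
    IsPGroup.of_card (n := (Nat.card M).factorization s) (by rw [hTcard, S.card_eq_multiplicity])
  obtain ⟨T', hT'⟩ := hTp.exists_le_sylow
  have hTT' : T.subgroupOf M = (T' : Subgroup M) :=
    Subgroup.eq_of_le_of_card_ge hT' (by rw [hTcard, S.card_eq_multiplicity, T'.card_eq_multiplicity])
  obtain ⟨m, hm⟩ := MulAction.exists_smul_eq M T' S
  set n := (m : G) * x0 with hn
  have hnS : n ∈ normalizer (S0 : Set G) := by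
    refine Subgroup.mem_normalizer_fintype fun z hz => ?_
    obtain ⟨w, hw, rfl⟩ := hz
    have h1 : (⟨x0 * w * x0⁻¹, hconj _ w.2⟩ : M) ∈ (T' : Subgroup M) := by
      rw [← hTT', Subgroup.mem_subgroupOf]
      exact ⟨_, ⟨w, hw, rfl⟩, rfl⟩
    have h2 : m * ⟨x0 * w * x0⁻¹, hconj _ w.2⟩ * m⁻¹ ∈ (S : Subgroup M) := by
      rw [← hm, Sylow.coe_subgroup_smul, Subgroup.mem_pointwise_smul_iff_inv_smul_mem, MulAut.smul_def,
        MulAut.conj_inv_apply]
      simpa [mul_assoc] using h1
    refine ⟨_, h2, ?_⟩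
    show ((m : G) * (x0 * w * x0⁻¹) * (m : G)⁻¹) = n * w * n⁻¹
    rw [hn]; group
  have hnr : r ∣ orderOf (π n) := by
    set κ := π m with hκ
    have hκK : κ ∈ K := m.2
    have e : π n = κ * τ := by rw [hn, map_mul, hx0]
    rw [e]
    by_contra hnd
    have hcop : Nat.Coprime (orderOf (κ * τ)) r := ((hr.out.coprime_iff_not_dvd).mpr hnd).symm
    have hmem : (κ * τ) ^ r ∈ K := by
      have h1 := coset_mem K hτK hκK r
      rwa [← hτ, pow_orderOf_eq_one, inv_one, mul_one, hτ] at h1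
    obtain ⟨j, hj⟩ := exists_pow_eq_self_of_coprime hcop.symm
    have h2 : κ * τ ∈ K := hj ▸ pow_mem hmem j
    have h3 : τ ∈ K := by
      have := mul_mem (inv_mem hκK) h2
      rwa [inv_mul_cancel_left] at this
    obtain ⟨i, hi⟩ := IsPGroup.iff_orderOf.mp hK ⟨τ, h3⟩
    rw [Subgroup.orderOf_mk, hτ] at hi
    exact hrs ((Nat.prime_dvd_prime_iff_eq hr.out hs.out).mp (hr.out.dvd_of_dvd_pow (n := i) (hi ▸ dvd_refl r)))
  have hnH : n ∉ P.comp a := fun hm' => by
    rw [show π n = 1 from (QuotientGroup.eq_one_iff _).mpr hm', orderOf_one] at hnr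
    exact hr.out.ne_one (Nat.dvd_one.mp hnr)
  rw [P.order_quot ha hnH] at hnr
  set x := n ^ (orderOf n / r) with hx
  have hxo : orderOf x = r := orderOf_pow_orderOf_div (orderOf_pos n).ne' hnr
  have hxH : x ∉ P.comp a := fun hm' => hr.out.ne_one (by
    rw [← hxo, show x = 1 from P.pow_out ha hnH hm', orderOf_one])
  refine P.no_inv ha hrs hst hdt hno S0 hS0p ?_ hxo hxH (pow_mem hnS _)
  by_contra hle
  push Not at hle
  have hsub : (S : Subgroup M) ≤ (P.comp a).subgroupOf M := fun w hw =>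
    Subgroup.mem_subgroupOf.mpr (hle w ⟨w, hw, rfl⟩)
  refine S.not_dvd_index ((?_ : s ∣ ((P.comp a).subgroupOf M).index).trans (Subgroup.index_dvd_of_le hsub))
  have e : (π.comp M.subtype).range = K := by
    rw [MonoidHom.range_comp, Subgroup.range_subtype, hM,
      Subgroup.map_comap_eq_self_of_surjective (QuotientGroup.mk'_surjective _)]
  have hker : (π.comp M.subtype).ker = (P.comp a).subgroupOf M := by
    rw [← MonoidHom.comap_ker, hπ, QuotientGroup.ker_mk']; rfl
  rw [← hker, Subgroup.index_ker, e]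
  obtain ⟨i, hi⟩ := IsPGroup.iff_card.mp hK
  rw [hi]
  exact dvd_pow_self _ fun e0 => hK1 (Subgroup.card_eq_one.mp (by rw [hi, e0, pow_zero]))

/-- In the quotient by the component the elements of order `p` form a normal `p`-subgroup with the identity. -/
theorem pcore_quot {p : ℕ} [hp : Fact p.Prime] (hd : p ∣ Nat.card (P.comp a)) :
    ∃ W : Subgroup (G ⧸ P.comp a), W.Normal ∧ IsPGroup p W ∧ ∀ τ : G ⧸ P.comp a, orderOf τ = p → τ ∈ W := by
  classical
  set π := QuotientGroup.mk' (P.comp a) with hπ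
  have hord : ∀ τ : G ⧸ P.comp a, τ ≠ 1 → ∃ g : G, g ∉ P.comp a ∧ π g = τ ∧ orderOf g = orderOf τ := by
    intro τ hτ
    obtain ⟨g, rfl⟩ := QuotientGroup.mk'_surjective _ τ
    have hg : g ∉ P.comp a := fun h => hτ ((QuotientGroup.eq_one_iff _).mpr h)
    exact ⟨g, hg, rfl, (P.order_quot ha hg).symm⟩
  have hne : ∀ τ : G ⧸ P.comp a, ∀ {n : ℕ}, n.Prime → orderOf τ = n → τ ≠ 1 := fun τ n hn h e =>
    hn.ne_one (by rw [← h, e, orderOf_one])
  by_cases hp2 : p = 2
  · subst hp2
    refine ⟨Cfsg.pCore 2 (G ⧸ P.comp a), inferInstance, CfsgLib.isPGroup_pCore 2, fun τ hτ => ?_⟩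
    by_contra hn
    obtain ⟨r, k, hr, hr2, hk, hinv⟩ := CIT.IsCIT.exists_inverted hτ hn
    haveI := Fact.mk hr
    refine P.no_inv_quot ha (r := 2) (s := r) (t := 2) hr2.symm hr2 hd (fun g hg => P.not_mul_dvd ha hd hr hr2 hg)
      (zpowers k) (IsPGroup.of_card (n := 1) (by rw [Nat.card_zpowers, hk, pow_one]))
      (fun e => hne k hr hk (Subgroup.zpowers_eq_bot.mp e)) hτ (Subgroup.mem_normalizer_fintype fun y hy => ?_)
    obtain ⟨i, rfl⟩ := mem_zpowers_iff.mp hy
    rw [← conj_zpow, hinv]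
    exact zpow_mem (inv_mem (mem_zpowers k)) i
  by_cases heven : 2 ∣ Nat.card (G ⧸ P.comp a)
  · haveI : Fact (Nat.Prime 2) := ⟨Nat.prime_two⟩
    obtain ⟨υ, hυ⟩ := exists_prime_orderOf_dvd_card' 2 heven
    obtain ⟨u, huH, hπu, huo⟩ := hord υ (hne υ Nat.prime_two hυ)
    rw [hυ] at huo
    haveI := Fintype.ofFinite G
    set A := omegaCenter (P.comp a) p with hA
    have hinv : ∀ g : G, ∀ v ∈ A, (g * u * g⁻¹) * v * (g * u * g⁻¹)⁻¹ = v⁻¹ := by
      intro g
      have huo' : orderOf (g * u * g⁻¹) = 2 := (Involutions.orderOf_conj g u).trans huo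
      refine BSW.invert_of_fpf huo' (by rw [Subgroup.normalizer_eq_top]; trivial) fun v hv hf => ?_
      by_contra hv1
      have hgu : g * u * g⁻¹ ∉ P.comp a := fun hm => huH (by
        have := hHn.conj_mem _ hm g⁻¹
        simpa [mul_assoc] using this)
      have := (P.orderOf_of_commute ha hv.1 hv1 hgu (mul_inv_eq_iff_eq_mul.mp hf)).1
      rw [huo', orderOf_eq_prime hv.2.2 hv1] at this
      exact hp2 this.symm
    refine ⟨(centralizer (A : Set G)).map π, Subgroup.Normal.map inferInstance _ (QuotientGroup.mk'_surjective _), ?_,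
      fun τ hτ => ?_⟩
    · rintro ⟨_, c, hc, rfl⟩
      refine ⟨1, Subtype.ext ?_⟩
      show (π c) ^ p ^ 1 = 1
      rw [pow_one, ← map_pow]
      by_cases hcH : c ∈ P.comp a
      · rw [map_pow, show π c = 1 from (QuotientGroup.eq_one_iff _).mpr hcH, one_pow]
      · obtain ⟨v, hv, hv1⟩ := (Subgroup.bot_or_exists_ne_one _).resolve_left
          (omegaCenter_ne_bot (p := p) (P.nilpotent_of_outside ha huH) hd)
        have := (P.orderOf_of_commute ha hv.1 hv1 hcH (Subgroup.mem_centralizer_iff.mp hc v hv).symm).1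
        rw [orderOf_eq_prime hv.2.2 hv1] at this
        rw [← this, pow_orderOf_eq_one, map_one]
    · obtain ⟨g, hgH, hπg, hgo⟩ := hord τ (hne τ hp.out hτ)
      have hc : (g * u * g⁻¹) * u⁻¹ ∈ centralizer (A : Set G) := by
        refine Subgroup.mem_centralizer_iff.mpr fun v hv => ?_
        have h1 := hinv 1 v hv
        rw [one_mul, inv_one, mul_one] at h1
        have h2 := hinv g v⁻¹ (inv_mem hv)
        have h3 : u⁻¹ * v * u = v⁻¹ := by
          have h4 := congrArg (·⁻¹) h1
          simp only [_root_.mul_inv_rev, inv_inv] at h4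
          calc u⁻¹ * v * u = u⁻¹ * (u * (v⁻¹ * u⁻¹)) * u := by rw [h4]
            _ = v⁻¹ := by group
        rw [inv_inv] at h2
        calc v * (g * u * g⁻¹ * u⁻¹) = (g * u * g⁻¹) * v⁻¹ * (g * u * g⁻¹)⁻¹ * (g * u * g⁻¹ * u⁻¹) := by rw [h2]
          _ = (g * u * g⁻¹) * v⁻¹ * u⁻¹ := by group
          _ = (g * u * g⁻¹) * (u⁻¹ * v * u) * u⁻¹ := by rw [h3]
          _ = g * u * g⁻¹ * u⁻¹ * v := by group
      set W := (centralizer (A : Set G)).map π with hW
      haveI : W.Normal := Subgroup.Normal.map inferInstance _ (QuotientGroup.mk'_surjective _)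
      by_contra hτW
      set φ := QuotientGroup.mk' W
      have hWp : ∀ w ∈ W, w ^ p = 1 := by
        rintro _ ⟨c, hc', rfl⟩
        by_cases hcH : c ∈ P.comp a
        · rw [show π c = 1 from (QuotientGroup.eq_one_iff _).mpr hcH, one_pow]
        · obtain ⟨v, hv, hv1⟩ := (Subgroup.bot_or_exists_ne_one _).resolve_left
            (omegaCenter_ne_bot (p := p) (P.nilpotent_of_outside ha huH) hd)
          have := (P.orderOf_of_commute ha hv.1 hv1 hcH (Subgroup.mem_centralizer_iff.mp hc' v hv).symm).1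
          rw [orderOf_eq_prime hv.2.2 hv1] at this
          rw [← map_pow, ← this, pow_orderOf_eq_one, map_one]
      have h1 : orderOf (φ τ) = p := by
        refine orderOf_eq_prime ?_ fun e => hτW ((QuotientGroup.eq_one_iff _).mp e)
        rw [← map_pow, ← hτ, pow_orderOf_eq_one, map_one]
      have h2 : orderOf (φ υ) = 2 := by
        refine orderOf_eq_prime ?_ fun e => ?_
        · rw [← map_pow, ← hυ, pow_orderOf_eq_one, map_one]
        · have := hWp υ ((QuotientGroup.eq_one_iff _).mp e)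
          have h' := orderOf_dvd_of_pow_eq_one this
          rw [hυ] at h'
          exact hp2 ((Nat.prime_dvd_prime_iff_eq Nat.prime_two hp.out).mp h').symm
      have h3 : Commute (φ τ) (φ υ) := by
        have : φ (π ((g * u * g⁻¹) * u⁻¹)) = 1 :=
          (QuotientGroup.eq_one_iff _).mpr (Subgroup.mem_map_of_mem π hc)
        simp only [map_mul, map_inv, hπg, hπu] at this
        rw [mul_inv_eq_one, mul_inv_eq_iff_eq_mul] at this
        exact this
      have h4 : p * 2 ∣ orderOf (τ * υ) := by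
        refine dvd_trans (dvd_of_eq ?_) (orderOf_map_dvd φ (τ * υ))
        rw [map_mul, h3.orderOf_mul_eq_mul_orderOf_of_coprime (by
          rw [h1, h2]; exact (Nat.coprime_primes hp.out Nat.prime_two).mpr hp2), h1, h2]
      obtain ⟨w, hwH, -, hwo⟩ := hord (τ * υ) (fun e => by
        rw [e, orderOf_one] at h4
        exact hp.out.ne_one (Nat.dvd_one.mp ((dvd_mul_right p 2).trans h4)))
      exact P.not_mul_dvd ha hd Nat.prime_two (Ne.symm hp2) hwH (hwo ▸ h4)
  · haveI : Group.IsSolvable (G ⧸ P.comp a) :=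
      Cfsg.Agent.S0205.result (Nat.not_even_iff_odd.mp fun he => heven he.two_dvd)
    refine ⟨Cfsg.pCore p (G ⧸ P.comp a), inferInstance, CfsgLib.isPGroup_pCore p, fun τ hτ => ?_⟩
    by_contra hτW
    set W := Cfsg.pCore p (G ⧸ P.comp a) with hW
    set φ := QuotientGroup.mk' W
    haveI : Nontrivial ((G ⧸ P.comp a) ⧸ W) :=
      nontrivial_of_ne (φ τ) 1 fun e => hτW ((QuotientGroup.eq_one_iff _).mp e)
    obtain ⟨K, hKn, -, hK0, hKmin⟩ := CfsgLib.exists_minimal_normal (N := (⊤ : Subgroup ((G ⧸ P.comp a) ⧸ W))) top_ne_bot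
    haveI := hKn
    obtain ⟨-, s, hs, hsK⟩ := CfsgLib.minimal_normal_elementary hK0 inferInstance hKmin
    haveI := Fact.mk hs
    have hsp : s ≠ p := by
      rintro rfl
      refine hK0 ((Subgroup.eq_bot_iff_forall _).mpr fun k hk => ?_)
      obtain ⟨k0, rfl⟩ := QuotientGroup.mk'_surjective W k
      haveI : (K.comap φ).Normal := inferInstance
      have hpk : IsPGroup s (K.comap φ) := by
        intro x
        obtain ⟨i, hi⟩ := CfsgLib.isPGroup_pCore s (G := G ⧸ P.comp a)
          ⟨(x : G ⧸ P.comp a) ^ s, (QuotientGroup.eq_one_iff _).mp (by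
            show φ ((x : G ⧸ P.comp a) ^ s) = 1
            rw [map_pow]; exact hsK _ x.2)⟩
        have h1 : ((x : G ⧸ P.comp a) ^ s) ^ s ^ i = 1 := by simpa using congrArg Subtype.val hi
        exact ⟨i + 1, Subtype.ext (by
          rw [pow_succ', pow_mul]
          simpa using h1)⟩
      exact (QuotientGroup.eq_one_iff _).mpr (CfsgLib.le_pCore hpk hk)
    -- a Sylow subgroup of the preimage, normalised by an element of order `p` outside the core
    set M := K.comap φ with hM
    haveI : M.Normal := inferInstance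
    obtain ⟨S⟩ : Nonempty (Sylow s M) := inferInstance
    set S0 := (S : Subgroup M).map M.subtype with hS0
    have hsup : normalizer (S0 : Set (G ⧸ P.comp a)) ⊔ M = ⊤ := Sylow.normalizer_sup_eq_top S
    have hτmem : τ ∈ normalizer (S0 : Set (G ⧸ P.comp a)) ⊔ M := hsup ▸ Subgroup.mem_top τ
    rw [← SetLike.mem_coe, Subgroup.mul_normal] at hτmem
    obtain ⟨n, hn, m, hm, e⟩ := hτmem
    have hpn : p ∣ orderOf n := by
      set ψ := QuotientGroup.mk' M
      have h1 : ψ n = ψ τ := by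
        rw [← e, map_mul, show ψ m = 1 from (QuotientGroup.eq_one_iff _).mpr hm, mul_one]
      have hφ1 : φ τ ≠ 1 := fun e2 => hτW ((QuotientGroup.eq_one_iff _).mp e2)
      have hτp : τ ^ p = 1 := orderOf_dvd_iff_pow_eq_one.mp hτ.dvd
      have hφp : (φ τ) ^ p = 1 := by rw [← map_pow, hτp, map_one]
      have h2 : ψ τ ≠ 1 := fun e1 => by
        have hφ : (φ τ) ^ s = 1 := hsK _ ((QuotientGroup.eq_one_iff τ).mp e1)
        have hd1 := orderOf_dvd_of_pow_eq_one hφ
        rw [orderOf_eq_prime hφp hφ1] at hd1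
        exact hsp ((Nat.prime_dvd_prime_iff_eq hp.out hs).mp hd1).symm
      have h3 : orderOf (ψ τ) = p := orderOf_eq_prime (by rw [← map_pow, hτp, map_one]) h2
      rw [← h3, ← h1]
      exact orderOf_map_dvd _ _
    refine P.no_inv_quot ha (r := p) (s := s) (t := p) hsp.symm hsp hd (fun g hg => P.not_mul_dvd ha hd hs hsp hg)
      S0 (S.2.map _) ?_ (orderOf_pow_orderOf_div (orderOf_pos n).ne' hpn) (pow_mem hn _)
    intro e0
    rw [hS0, Subgroup.map_eq_bot_iff_of_injective _ M.subtype_injective] at e0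
    refine S.ne_bot_of_dvd_card ?_ e0
    have hdK : s ∣ Nat.card K := by
      have hKs : IsPGroup s K := fun x => ⟨1, Subtype.ext (by rw [pow_one]; exact hsK _ x.2)⟩
      obtain ⟨i, hi⟩ := IsPGroup.iff_card.mp hKs
      rw [hi]
      exact dvd_pow_self _ fun e1 => hK0 (Subgroup.card_eq_one.mp (by rw [hi, e1, pow_zero]))
    have e1 : (φ.comp M.subtype).range = K := by
      rw [MonoidHom.range_comp, Subgroup.range_subtype, hM,
        Subgroup.map_comap_eq_self_of_surjective (QuotientGroup.mk'_surjective _)]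
    exact hdK.trans (e1 ▸ Subgroup.card_range_dvd _)

/-- Either all elements outside have order `p`, or the component is a `p`-group. -/
theorem exp_or_pgroup {p : ℕ} [hp : Fact p.Prime] (hd : p ∣ Nat.card (P.comp a))
    {z : G} (hz : z ∉ P.comp a) (hzo : orderOf z = p) :
    (∀ g : G, g ∉ P.comp a → g ^ p = 1) ∨ IsPGroup p (P.comp a) := by
  by_contra hcon
  push Not at hcon
  obtain ⟨⟨y, hyH, hyp⟩, hnp⟩ := hcon
  obtain ⟨q, hq, hqp, hqd⟩ : ∃ q, q.Prime ∧ q ≠ p ∧ q ∣ Nat.card (P.comp a) := by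
    by_contra hh
    push Not at hh
    exact hnp (IsPGroup.of_card (Nat.eq_prime_pow_of_unique_prime_dvd Nat.card_pos.ne' fun {d} hd' hdd =>
      by_contra fun hne => hh d hd' hne hdd))
  haveI := Fact.mk hq
  obtain ⟨W, hWn, hWp, hWall⟩ := P.pcore_quot ha hd
  have hpy : ¬ p ∣ orderOf y := fun h => hyp (by rw [← P.order_outside ha hd hyH h, pow_orderOf_eq_one])
  have hy1 : y ≠ 1 := fun e => hyH (e ▸ one_mem _)
  obtain ⟨r, hr, hrd⟩ := Nat.exists_prime_and_dvd (mt orderOf_eq_one_iff.mp hy1)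
  haveI := Fact.mk hr
  have hrp : r ≠ p := fun e => hpy (e ▸ hrd)
  have hyr : y ^ (orderOf y / r) ∉ P.comp a := fun hm => hr.ne_one (by
    rw [← orderOf_pow_orderOf_div (orderOf_pos y).ne' hrd, P.pow_out ha hyH hm, orderOf_one])
  refine P.no_inv_quot ha (r := r) (s := p) (t := q) hrp hqp.symm hqd
    (fun g hg => mul_comm r p ▸ P.not_mul_dvd ha hd hr hrp hg) W hWp (fun e => ?_)
    (τ := QuotientGroup.mk' (P.comp a) (y ^ (orderOf y / r))) ?_ ?_
  · have h1 := hWall (QuotientGroup.mk' (P.comp a) z) (by rw [P.order_quot ha hz, hzo])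
    rw [e, Subgroup.mem_bot] at h1
    exact hz ((QuotientGroup.eq_one_iff _).mp h1)
  · rw [P.order_quot ha hyr]
    exact orderOf_pow_orderOf_div (orderOf_pos y).ne' hrd
  · rw [Subgroup.normalizer_eq_top]; trivial

/-- The whole theorem for a normal component. -/
theorem normal_case :
    (∃ p : ℕ, p.Prime ∧ Subgroup.closure {g : G | g ^ p ≠ 1} ≠ ⊤) ∨
      (∃ C : Subgroup G, Cfsg.IsFrobeniusComplement C) := by
  have htop := P.proper a ha
  have hclos : ∀ {p : ℕ}, (∀ g : G, g ∉ P.comp a → g ^ p = 1) → Subgroup.closure {g : G | g ^ p ≠ 1} ≠ ⊤ := by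
    intro p h e
    refine htop (top_le_iff.mp (e.ge.trans ((Subgroup.closure_le _).mpr fun g hg => ?_)))
    exact by_contra fun hn => hg (h g hn)
  have hHbot : P.comp a ≠ ⊥ := fun e => ha (Subgroup.mem_bot.mp (e ▸ P.self_mem a ha))
  by_cases hbad : ∃ z, z ∉ P.comp a ∧ ∃ h ∈ P.comp a, h ≠ 1 ∧ Commute z h
  · obtain ⟨z, hz, h, hh, hh1, hc⟩ := hbad
    obtain ⟨he, hp⟩ := P.orderOf_of_commute ha hh hh1 hz hc
    haveI := Fact.mk hp
    have hd : orderOf z ∣ Nat.card (P.comp a) := by
      rw [he]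
      have := orderOf_dvd_natCard (⟨h, hh⟩ : P.comp a)
      rwa [Subgroup.orderOf_mk] at this
    set p := orderOf z with hpz
    rcases P.exp_or_pgroup ha hd hz hpz.symm with h1 | hHp
    · exact Or.inl ⟨p, hp, hclos h1⟩
    obtain ⟨W, hWn, hWp, hWall⟩ := P.pcore_quot ha hd
    set π := QuotientGroup.mk' (P.comp a) with hπ
    set V := W.comap π with hV
    haveI : V.Normal := inferInstance
    have hVp : IsPGroup p V := hWp.comap_of_ker_isPGroup π (by rw [hπ, QuotientGroup.ker_mk']; exact hHp)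
    have hout : ∀ g : G, g ∉ V → ¬ p ∣ orderOf g := by
      intro g hg hd'
      have hgH : g ∉ P.comp a := fun hm => hg (by
        show π g ∈ W
        rw [show π g = 1 from (QuotientGroup.eq_one_iff _).mpr hm]
        exact one_mem _)
      exact hg (hWall (π g) (by rw [P.order_quot ha hgH, P.order_outside ha hd hgH hd']))
    by_cases hVtop : V = ⊤
    · refine Or.inl ⟨p, hp, P.hughes_of_pgroup ?_ (nontrivial_of_ne a 1 ha)⟩
      exact (hVtop ▸ hVp : IsPGroup p (⊤ : Subgroup G)).of_equiv Subgroup.topEquiv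
    have hidx : ¬ p ∣ V.index := by
      intro hdi
      obtain ⟨τ, hτ⟩ := exists_prime_orderOf_dvd_card' (G := G ⧸ V) p (by rwa [← Subgroup.index_eq_card])
      obtain ⟨g, rfl⟩ := QuotientGroup.mk'_surjective V τ
      refine hout g (fun hm => hp.ne_one ?_) (hτ ▸ orderOf_map_dvd _ g)
      rw [← hτ, show QuotientGroup.mk' V g = 1 from (QuotientGroup.eq_one_iff _).mpr hm, orderOf_one]
    obtain ⟨k, hk⟩ := IsPGroup.iff_card.mp hVp
    obtain ⟨C, hC⟩ := Subgroup.exists_right_complement'_of_coprime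
      (show Nat.Coprime (Nat.card V) V.index by rw [hk]; exact Nat.Coprime.pow_left _ (hp.coprime_iff_not_dvd.mpr hidx))
    have hVH : P.comp a ≤ V := fun g hg => by
      show π g ∈ W
      rw [show π g = 1 from (QuotientGroup.eq_one_iff _).mpr hg]
      exact one_mem _
    refine Or.inr ⟨C, frobenius_of_complement V C hC (fun e => hHbot (le_bot_iff.mp (e ▸ hVH)))
      (fun e => hVtop (Subgroup.isComplement'_bot_right.mp (e ▸ hC))) fun c hcC hc1 v hv hcv => ?_⟩
    by_contra hv1
    have hcV : c ∉ V := fun hm => hc1 (Subgroup.disjoint_def.mp hC.disjoint hm hcC)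
    obtain ⟨i, hi⟩ := IsPGroup.iff_orderOf.mp hVp ⟨v, hv⟩
    rw [Subgroup.orderOf_mk] at hi
    have hpv : p ∣ orderOf v := hi ▸ dvd_pow_self _ fun e => hv1 (orderOf_eq_one_iff.mp (by rw [hi, e, pow_zero]))
    by_cases hvH : v ∈ P.comp a
    · exact hout c hcV ((P.orderOf_of_commute ha hvH hv1 (fun hm => hcV (hVH hm)) hcv).1 ▸ hpv)
    · refine hout (c * v) (fun hm => hcV ?_) ?_
      · have := mul_mem hm (inv_mem hv)
        rwa [mul_inv_cancel_right] at this
      · rw [hcv.orderOf_mul_eq_mul_orderOf_of_coprime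
          (by rw [hi]; exact Nat.Coprime.pow_right _ ((hp.coprime_iff_not_dvd.mpr (hout c hcV)).symm))]
        exact hpv.mul_left _
  · push Not at hbad
    right
    have hco : (Nat.card (P.comp a)).Coprime (P.comp a).index := by
      refine Nat.coprime_of_dvd fun q hq hqH hqI => ?_
      haveI := Fact.mk hq
      obtain ⟨R⟩ : Nonempty (Sylow q G) := inferInstance
      obtain ⟨x, hx⟩ := exists_prime_orderOf_dvd_card' (G := P.comp a) q hqH
      obtain ⟨y, hyR, hyH⟩ : ∃ y ∈ (R : Subgroup G), y ∉ P.comp a := by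
        by_contra hh
        push Not at hh
        exact R.not_dvd_index (hqI.trans (Subgroup.index_dvd_of_le hh))
      set Q := (R : Subgroup G) ⊓ P.comp a with hQ
      have hQn : (Q.subgroupOf R).Normal := by
        refine ⟨fun q' hq' g => Subgroup.mem_subgroupOf.mpr ⟨?_, ?_⟩⟩
        · exact (g * q' * g⁻¹).2
        · exact hHn.conj_mem _ (Subgroup.mem_subgroupOf.mp hq').2 g
      have hQ1 : Q.subgroupOf R ≠ ⊥ := by
        obtain ⟨T, hT⟩ : ∃ T : Sylow q G, (x : G) ∈ T := by
          obtain ⟨T, hT⟩ := (IsPGroup.of_card (G := zpowers (x : G)) (p := q) (n := 1)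
            (by rw [Nat.card_zpowers, Subgroup.orderOf_coe, hx, pow_one])).exists_le_sylow
          exact ⟨T, hT (mem_zpowers _)⟩
        obtain ⟨g, hg⟩ := MulAction.exists_smul_eq G T R
        have hm : g * (x : G) * g⁻¹ ∈ Q := ⟨by
          rw [← hg]
          show g * (x : G) * g⁻¹ ∈ MulAut.conj g • (T : Subgroup G)
          rw [Subgroup.mem_pointwise_smul_iff_inv_smul_mem]
          simpa [MulAut.smul_def, mul_assoc] using (show (x : G) ∈ (T : Subgroup G) from hT), hHn.conj_mem _ x.2 g⟩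
        intro e
        have := Subgroup.subgroupOf_eq_bot.mp e
        have h1 : g * (x : G) * g⁻¹ = 1 := Subgroup.disjoint_def.mp this hm hm.1
        rw [conj_eq_one_iff] at h1
        rw [show x = 1 from Subtype.ext h1, orderOf_one] at hx
        exact hq.ne_one hx.symm
      haveI : Group.IsNilpotent (R : Subgroup G) := R.isPGroup'.isNilpotent
      have hne := CfsgLib.inf_center_ne_bot_of_nilpotent (G := (R : Subgroup G)) (N := Q.subgroupOf R) hQ1
      obtain ⟨w, hw, hw1⟩ := (Subgroup.bot_or_exists_ne_one _).resolve_left hne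
      obtain ⟨hwQ, hwc⟩ := Subgroup.mem_inf.mp hw
      exact hbad y hyH w (Subgroup.mem_subgroupOf.mp hwQ).2 (fun e => hw1 (Subtype.ext e))
        (congrArg Subtype.val (Subgroup.mem_center_iff.mp hwc ⟨y, hyR⟩))
    obtain ⟨C, hC⟩ := Subgroup.exists_right_complement'_of_coprime hco
    refine ⟨C, frobenius_of_complement _ C hC hHbot (fun e => htop (Subgroup.isComplement'_bot_right.mp (e ▸ hC)))
      fun c hcC hc1 v hv hcv => by_contra fun hv1 => ?_⟩
    exact hbad c (fun hm => hc1 (Subgroup.disjoint_def.mp hC.disjoint hm hcC)) v hv hv1 hcv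

end Part

end CfsgLib.Partition
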