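import Cfsg.Agent.Lib.Partition.ElemNormal
import Cfsg.Agent.Lib.Partition.NormalComp
import Cfsg.Agent.Lib.Frobenius.Kernel

/-!
Groups with a non-trivial partition, without Frobenius complements and with proper Hughes subgroups excluded:
either the symmetric group of degree four or a non-abelian simple socle with trivial centraliser.
-/

set_option autoImplicit false
set_option linter.unusedSectionVars false
set_option linter.style.haveILetI false

namespace CfsgLib.Partition

open Subgroup

universe u

variable {G : Type u} [Group G] [Finite G]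

/-- A simple non-abelian group has no Frobenius complement. -/
theorem no_frobenius_of_simple [IsSimpleGroup G] (C : Subgroup G) : ¬ Cfsg.IsFrobeniusComplement C := by
  intro hC
  obtain ⟨N, -, hNn, hNC⟩ := CfsgLib.Frob.exists_kernel hC
  rcases hNn.eq_bot_or_eq_top with e | e
  · subst e
    exact hC.2.1 (Subgroup.isComplement'_bot_left.mp hNC)
  · subst e
    exact hC.1 (Subgroup.isComplement'_top_left.mp hNC)

/-- A solvable normal subgroup gives the symmetric group of degree four. -/
theorem solvable_case (P : Part G) (hF : ∀ C : Subgroup G, ¬ Cfsg.IsFrobeniusComplement C)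
    (hH : ∀ q : ℕ, q.Prime → Subgroup.closure {g : G | g ^ q ≠ 1} = ⊤) [Nontrivial G]
    (N : Subgroup G) [N.Normal] (hN : N ≠ ⊥) (hs : Group.IsSolvable N) :
    Nonempty (G ≃* Equiv.Perm (Fin 4)) := by
  obtain ⟨V, hVn, hVN, hV0, hmin⟩ := CfsgLib.exists_minimal_normal hN
  haveI := hVn
  haveI := hs
  haveI : Group.IsSolvable V :=
    Group.isSolvable_of_isSolvable_injective (f := Subgroup.inclusion hVN) (Subgroup.inclusion_injective _)
  obtain ⟨hab, p, hp, hVp⟩ := CfsgLib.minimal_normal_elementary hV0 inferInstance hmin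
  by_cases hin : ∃ a : G, a ≠ 1 ∧ V ≤ P.comp a
  · obtain ⟨a, ha, hVa⟩ := hin
    obtain ⟨v, hv, hv1⟩ := V.bot_or_exists_ne_one.resolve_left hV0
    haveI : (P.comp a).Normal := Subgroup.normalizer_eq_top_iff.mp (eq_top_iff.mpr fun g _ =>
      P.mem_normalizer_of_conj ha (hVa hv) hv1 (hVa (hVn.conj_mem v hv g)))
    rcases P.normal_case ha with ⟨q, hq, hne⟩ | ⟨C, hC⟩
    · exact absurd (hH q hq) hne
    · exact absurd hC (hF C)
  · push Not at hin
    refine perm_four_of_spread P V ⟨hp, hVn, fun u hu v hv => ?_, hVp, hin⟩ hF hH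
    exact congrArg Subtype.val (hab.is_comm.comm ⟨u, hu⟩ ⟨v, hv⟩)

/-- A subgroup commuting with a non-solvable subgroup is solvable. -/
theorem solvable_of_commute (P : Part G) (hF : ∀ C : Subgroup G, ¬ Cfsg.IsFrobeniusComplement C)
    (A B : Subgroup G) (hB : ¬ Group.IsSolvable B) (hc : ∀ a ∈ A, ∀ b ∈ B, Commute a b) : Group.IsSolvable A := by
  obtain ⟨p, hp, hpd⟩ := Nat.exists_prime_and_dvd (n := Nat.card B) fun e => hB (by
    haveI : Subsingleton B := (Nat.card_eq_one_iff_unique.mp e).1
    infer_instance)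
  obtain ⟨q, hq, hqp, hqd⟩ : ∃ q, q.Prime ∧ q ≠ p ∧ q ∣ Nat.card B := by
    by_contra hh
    push Not at hh
    haveI := Fact.mk hp
    refine hB ?_
    have hpg : IsPGroup p B := IsPGroup.of_card (Nat.eq_prime_pow_of_unique_prime_dvd Nat.card_pos.ne'
      fun {d} hd hdd => by_contra fun hne => hh d hd hne hdd)
    haveI := hpg.isNilpotent
    infer_instance
  haveI := Fact.mk hp
  haveI := Fact.mk hq
  obtain ⟨b, hb⟩ := exists_prime_orderOf_dvd_card' (G := B) p hpd
  obtain ⟨c, hc'⟩ := exists_prime_orderOf_dvd_card' (G := B) q hqd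
  rw [← Subgroup.orderOf_coe] at hb hc'
  have hb1 : (b : G) ≠ 1 := fun e => hp.ne_one (by rw [← hb, e, orderOf_one])
  have hc1 : (c : G) ≠ 1 := fun e => hq.ne_one (by rw [← hc', e, orderOf_one])
  have hall : ∀ a ∈ A, a ∈ P.comp (b : G) ∨ a ∈ P.comp (c : G) := by
    intro a ha
    by_cases he : orderOf a = orderOf (b : G)
    · exact Or.inr (P.mem_of_commute hc1 (P.self_mem _ hc1) hc1 (hc a ha _ c.2)
        fun e => hqp (by rw [← hc', ← e, he, hb]))
    · exact Or.inl (P.mem_of_commute hb1 (P.self_mem _ hb1) hb1 (hc a ha _ b.2) he)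
  obtain ⟨d, hd1, hAd⟩ : ∃ d : G, d ≠ 1 ∧ A ≤ P.comp d := by
    by_contra hh
    push Not at hh
    obtain ⟨x, hx, hxb⟩ := SetLike.not_le_iff_exists.mp (hh _ hb1)
    obtain ⟨y, hy, hyc⟩ := SetLike.not_le_iff_exists.mp (hh _ hc1)
    have hxc := (hall x hx).resolve_left hxb
    have hyb := (hall y hy).resolve_right hyc
    rcases hall _ (mul_mem hx hy) with h | h
    · exact hxb (by simpa using mul_mem h (inv_mem hyb))
    · exact hyc (by simpa using mul_mem (inv_mem hxc) h)
  haveI := P.nilpotent hF hd1
  exact Group.isSolvable_of_isSolvable_injective (f := Subgroup.inclusion hAd) (Subgroup.inclusion_injective _)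

/-- Without solvable normal subgroups there is a simple socle, which inherits the partition. -/
theorem exists_socle (P : Part G) (hF : ∀ C : Subgroup G, ¬ Cfsg.IsFrobeniusComplement C)
    (hrad : ∀ (N : Subgroup G) [N.Normal], Group.IsSolvable N → N = ⊥) [Nontrivial G] :
    ∃ T : Subgroup G, T.Normal ∧ IsSimpleGroup T ∧ (∃ a b : T, a * b ≠ b * a) ∧
      centralizer (T : Set G) = ⊥ ∧ ∀ g ∈ T, g ≠ 1 → ¬ T ≤ P.comp g := by
  obtain ⟨M, hMn, -, hM0, hmin⟩ := CfsgLib.exists_minimal_normal (N := (⊤ : Subgroup G)) top_ne_bot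
  haveI := hMn
  have hMs : ¬ Group.IsSolvable M := fun hs => hM0 (hrad M hs)
  haveI : Nontrivial M := (Subgroup.nontrivial_iff_ne_bot M).mpr hM0
  refine ⟨M, hMn, ⟨fun S₀ hS₀ => ?_⟩, ?_, ?_, ?_⟩
  · by_contra hcon
    push Not at hcon
    obtain ⟨S, hSn, hST, hS0, hSmin⟩ := CfsgLib.exists_minimal_normal (hn := hS₀) hcon.1
    set S' := S.map M.subtype with hS'
    have hS'M : S' ≤ M := Subgroup.map_subtype_le S
    by_cases hnor : S'.Normal
    · rcases hmin S' hnor hS'M with e | e
      · exact hS0 ((Subgroup.map_eq_bot_iff_of_injective S M.subtype_injective).mp e)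
      · refine hcon.2 (top_le_iff.mp ((le_of_eq ?_).trans hST))
        refine Subgroup.map_injective M.subtype_injective ?_
        rw [← hS', e, ← MonoidHom.range_eq_map, Subgroup.range_subtype]
    · obtain ⟨g, hg⟩ : ∃ g : G, S'.map (MulAut.conj g).toMonoidHom ≠ S' := by
        by_contra hh
        push Not at hh
        exact hnor ⟨fun x hx g => (hh g).le ⟨x, hx, rfl⟩⟩
      set T' := S'.map (MulAut.conj g).toMonoidHom with hT'
      have hT'M : T' ≤ M := by
        rintro _ ⟨x, hx, rfl⟩
        exact hMn.conj_mem x (hS'M hx) g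
      have hSnM : ∀ s ∈ S', ∀ m ∈ M, m * s * m⁻¹ ∈ S' := by
        rintro _ ⟨s, hs, rfl⟩ m hm
        exact ⟨⟨m, hm⟩ * s * ⟨m, hm⟩⁻¹, hSn.conj_mem s hs _, by simp⟩
      have hTnM : ∀ t ∈ T', ∀ m ∈ M, m * t * m⁻¹ ∈ T' := by
        rintro _ ⟨s, hs, rfl⟩ m hm
        refine ⟨g⁻¹ * m * g * s * (g⁻¹ * m * g)⁻¹, hSnM s hs _ (by simpa using hMn.conj_mem m hm g⁻¹), ?_⟩
        simp [mul_assoc]
      have hbot : ∀ x ∈ S', x ∈ T' → x = 1 := by
        intro x hx hx'
        rcases hSmin ((S' ⊓ T').subgroupOf M) ⟨fun y hy m => by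
            rw [mem_subgroupOf] at hy ⊢
            push_cast
            exact ⟨hSnM _ hy.1 m m.2, hTnM _ hy.2 m m.2⟩⟩
          (fun y hy => by
            obtain ⟨s, hs, e⟩ := (mem_subgroupOf.mp hy).1
            exact (Subtype.ext e : s = y) ▸ hs) with e | e
        · have : (⟨x, hS'M hx⟩ : M) ∈ (S' ⊓ T').subgroupOf M := ⟨hx, hx'⟩
          rw [e, mem_bot] at this
          exact congrArg Subtype.val this
        · exfalso
          have hle : S' ≤ T' := by
            rintro _ ⟨s, hs, rfl⟩
            exact (mem_subgroupOf.mp (e.ge hs)).2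
          exact hg (eq_of_le_of_card_ge hle (Subgroup.card_map_of_injective (MulAut.conj g).injective).le).symm
      have hcomm : ∀ a ∈ T', ∀ b ∈ S', Commute a b := by
        intro b hb a ha
        refine (?_ : a * b = b * a).symm
        rw [← commutatorElement_eq_one_iff_mul_comm]
        refine hbot _ ?_ ?_
        · rw [commutatorElement_def, show a * b * a⁻¹ * b⁻¹ = a * (b * a⁻¹ * b⁻¹) by group]
          exact mul_mem ha (hSnM _ (inv_mem ha) b (hT'M hb))
        · rw [commutatorElement_def]
          exact mul_mem (hTnM b hb a (hS'M ha)) (inv_mem hb)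
      have hSs : ¬ Group.IsSolvable S' := by
        intro hs
        obtain ⟨-, s, hs', hSexp⟩ := CfsgLib.minimal_normal_elementary hS0 (by
          haveI := hs
          exact Group.isSolvable_of_surjective
            (f := (Subgroup.equivMapOfInjective S M.subtype M.subtype_injective).symm.toMonoidHom)
            (MulEquiv.surjective _)) hSmin
        haveI := Fact.mk hs'
        have hSp : IsPGroup s S := fun x => ⟨1, Subtype.ext (by simpa using hSexp _ x.2)⟩
        have hle : S ≤ Cfsg.pCore s M := le_sSup ⟨hSn, hSp⟩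
        haveI : (Cfsg.pCore s M).Characteristic := CfsgLib.pCore_characteristic s
        have h0 := hrad ((Cfsg.pCore s M).map M.subtype)
          (by haveI := ((CfsgLib.isPGroup_pCore (G := M) s).map M.subtype).isNilpotent; infer_instance)
        rw [Subgroup.map_eq_bot_iff_of_injective _ M.subtype_injective] at h0
        exact hS0 (eq_bot_iff.mpr (hle.trans h0.le))
      have hT's : ¬ Group.IsSolvable T' := by
        intro hs
        haveI := hs
        exact hSs (Group.isSolvable_of_surjective
          (f := (Subgroup.equivMapOfInjective S' (MulAut.conj g).toMonoidHom (MulAut.conj g).injective).symm.toMonoidHom)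
          (MulEquiv.surjective _))
      exact hSs (solvable_of_commute P hF S' T' hT's fun a ha b hb => (hcomm b hb a ha).symm)
  · by_contra hab
    push Not at hab
    exact hMs (Group.isSolvable_of_comm hab)
  · refine hrad _ (solvable_of_commute P hF _ M hMs fun a ha b hb => ?_)
    exact (Subgroup.mem_centralizer_iff.mp ha b hb).symm
  · intro g _ hg1 hle
    haveI := P.nilpotent hF hg1
    exact hMs (Group.isSolvable_of_isSolvable_injective (f := Subgroup.inclusion hle) (Subgroup.inclusion_injective _))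

end CfsgLib.Partition
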