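import Cfsg.Agent.Lib.Partition.Parts
import Cfsg.Agent.Lib.Partition.NormalComp
import Cfsg.Agent.Lib.Partition.Socle
import Cfsg.Agent.Lib.CITUse.CN
import Cfsg.Agent.Lib.BSW.Struct

/-!
A simple group with a partition cannot have a mixed component containing the centralisers of its involutions.
-/

set_option autoImplicit false
set_option linter.unusedSectionVars false
set_option linter.style.haveILetI false

namespace CfsgLib.Partition

open Subgroup
open CfsgLib.Involutions (mul_self_eq_one_of_orderOf inv_eq_self_of_orderOf orderOf_conj)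

universe u

variable {G : Type u} [Group G] [Finite G] [IsSimpleGroup G] (P : Part G) {t : G}

/-- No involution outside a normaliser inverts a non-trivial element of it. -/
theorem no_inverting (ht1 : t ≠ 1) {r : ℕ} [Fact r.Prime] (hr2 : r ≠ 2) (hrd : r ∣ Nat.card (P.comp t))
    (hnil : Group.IsNilpotent (P.comp t))
    (hout : ∀ x ∈ normalizer (P.comp t : Set G), x ∉ P.comp t → x ^ r = 1) {u k : G} (huo : orderOf u = 2)
    (hu : u ∉ normalizer (P.comp t : Set G)) (huC : centralizer ({u} : Set G) ≤ P.comp u)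
    (hnu : Group.IsNilpotent (P.comp u)) (hk : k ∈ normalizer (P.comp t : Set G)) (hk1 : k ≠ 1)
    (hinv : u * k * u⁻¹ = k⁻¹) : False := by
  have hu1 : u ≠ 1 := fun e => by simp [e] at huo
  have hkH : k ∉ P.comp t := fun h => hu (P.mem_normalizer_of_conj ht1 h hk1 (by rw [hinv]; exact inv_mem h))
  have hkr : orderOf k = r := orderOf_eq_prime (hout k hk hkH) hk1
  have hrodd : Odd r := (Fact.out : r.Prime).odd_of_ne_two hr2
  obtain ⟨c, hc, hco, hck⟩ := exists_fixed hnil hrd hk (k := 1) (by rw [pow_one, ← hkr, pow_orderOf_eq_one])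
  have hc1 : c ≠ 1 := fun e => (Fact.out : r.Prime).ne_one (by rw [← hco, e, orderOf_one])
  set Y := centralizer ({k} : Set G) with hY
  have huY : u ∈ normalizer (Y : Set G) := by
    have hu2 := mul_self_eq_one_of_orderOf huo
    have h1 : ∀ d ∈ Y, u * d * u⁻¹ ∈ Y := by
      intro d hd
      have h2 : Commute d k := mem_centralizer_singleton_iff.mp hd
      have h3 := (h2.inv_right).map (MulAut.conj u).toMonoidHom
      simp only [MulEquiv.coe_toMonoidHom, MulAut.conj_apply] at h3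
      rw [show u * k⁻¹ * u⁻¹ = (u * k * u⁻¹)⁻¹ by group, hinv, inv_inv] at h3
      exact mem_centralizer_singleton_iff.mpr h3.eq
    refine Subgroup.mem_normalizer_iff.mpr fun d => ⟨h1 d, fun hd => ?_⟩
    have := h1 _ hd
    rwa [show u * (u * d * u⁻¹) * u⁻¹ = (u * u) * d * (u * u)⁻¹ by group, hu2, one_mul, inv_one, mul_one] at this
  have hfix : ∀ d ∈ Y, u * d * u⁻¹ = d → d = 1 := by
    intro d hd hud
    by_contra hd1
    have hdu : d ∈ P.comp u := huC (mem_centralizer_singleton_iff.mpr (mul_inv_eq_iff_eq_mul.mp hud).symm)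
    have hkN : k ∈ normalizer (P.comp u : Set G) :=
      P.mem_normalizer_of_commute hu1 hdu hd1 (mem_centralizer_singleton_iff.mp hd).symm
    have h1 : k * u * k⁻¹ ∈ P.comp u := (Subgroup.mem_normalizer_iff.mp hkN u).mp (P.self_mem u hu1)
    have h2 : u * k = k⁻¹ * u := mul_inv_eq_iff_eq_mul.mp hinv
    rw [show k * u * k⁻¹ = k * k * u from by
      have : u * k⁻¹ = k * u := by
        calc u * k⁻¹ = k * (k⁻¹ * u) * k⁻¹ := by group
          _ = k * (u * k) * k⁻¹ := by rw [h2]
          _ = k * u := by group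
      rw [mul_assoc, this, ← mul_assoc]] at h1
    have hk2 : k * k ∈ P.comp u := by
      have := mul_mem h1 (inv_mem (P.self_mem u hu1))
      rwa [mul_inv_cancel_right] at this
    have hkmem : k ∈ P.comp u := by
      obtain ⟨m, hm⟩ := hrodd
      have e : k = (k * k) ^ (m + 1) := by
        rw [← pow_two, ← pow_mul, show 2 * (m + 1) = r + 1 by omega, pow_succ, ← hkr, pow_orderOf_eq_one, one_mul]
      rw [e]
      exact pow_mem hk2 _
    have hcm := CfsgLib.Frob.commute_of_nilpotent_coprime (G := P.comp u) (a := ⟨u, P.self_mem u hu1⟩)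
      (b := ⟨k, hkmem⟩) (by
        rw [Subgroup.orderOf_mk, Subgroup.orderOf_mk, huo, hkr]
        exact (Nat.coprime_primes Nat.prime_two Fact.out).mpr hr2.symm)
    have hcm' : u * k = k * u := congrArg Subtype.val hcm.eq
    rw [hcm', mul_inv_cancel_right, eq_inv_iff_mul_eq_one, ← pow_two] at hinv
    exact hr2 ((Nat.prime_dvd_prime_iff_eq Fact.out Nat.prime_two).mp (hkr ▸ orderOf_dvd_of_pow_eq_one hinv))
  haveI := Fintype.ofFinite G
  have h := BSW.invert_of_fpf huo huY hfix c (mem_centralizer_singleton_iff.mpr hck.eq.symm)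
  exact hu (P.mem_normalizer_of_conj ht1 hc hc1 (by rw [h]; exact inv_mem hc))

/-- The conjugates of the involutions of the component. -/
theorem many_outside (ht : orderOf t = 2) {x : G} (hxN : x ∈ normalizer (P.comp t : Set G)) (hxt : x * t * x⁻¹ ≠ t)
    (hA : ∀ s ∈ P.comp t, orderOf s = 2 → centralizer ({s} : Set G) ≤ P.comp t)
    (hN : normalizer (P.comp t : Set G) ≠ ⊤) :
    ∃ u v : G, u ≠ v ∧ orderOf u = 2 ∧ orderOf v = 2 ∧ u ∉ normalizer (P.comp t : Set G) ∧
      v * u ∈ normalizer (P.comp t : Set G) ∧ centralizer ({u} : Set G) ≤ P.comp u := by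
  classical
  haveI := Fintype.ofFinite G
  have ht1 : t ≠ 1 := fun e => by simp [e] at ht
  set M := normalizer (P.comp t : Set G) with hM
  set s' := x * t * x⁻¹ with hs'
  have hs'H : s' ∈ P.comp t := (Subgroup.mem_normalizer_iff.mp hxN t).mp (P.self_mem t ht1)
  have hs'o : orderOf s' = 2 := by rw [hs', orderOf_conj, ht]
  let f : (G ⧸ M) × Bool → G := fun q => q.1.out * (if q.2 then t else s') * q.1.out⁻¹
  have hb : ∀ b : Bool, (if b then t else s') ∈ P.comp t ∧ orderOf (if b then t else s') = 2 := fun b => by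
    cases b
    · exact ⟨hs'H, hs'o⟩
    · exact ⟨P.self_mem t ht1, ht⟩
  have hinj : Function.Injective f := by
    rintro ⟨q, b⟩ ⟨q', b'⟩ e
    have hb1 : (if b then t else s') ≠ 1 := fun e1 => by simpa [e1] using (hb b).2
    have e' : (q'.out⁻¹ * q.out) * (if b then t else s') * (q'.out⁻¹ * q.out)⁻¹ = if b' then t else s' := by
      calc _ = q'.out⁻¹ * f (q, b) * q'.out := by simp [f, mul_assoc]
        _ = q'.out⁻¹ * f (q', b') * q'.out := by rw [e]
        _ = _ := by simp [f, mul_assoc]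
    have hmem : q'.out⁻¹ * q.out ∈ M := P.mem_normalizer_of_conj ht1 (hb b).1 hb1 (e' ▸ (hb b').1)
    have hq : q' = q := by
      rw [← q'.out_eq', ← q.out_eq']
      exact QuotientGroup.eq.mpr hmem
    subst hq
    rw [inv_mul_cancel, one_mul, inv_one, mul_one] at e'
    cases b <;> cases b' <;> simp at e' ⊢
    · exact hxt e'
    · exact hxt e'.symm
  have hout : ∀ q : {q : G ⧸ M // q ≠ ((1 : G) : G ⧸ M)}, ∀ b, f (q.1, b) ∉ M := by
    intro q b hmem
    have hnotH : f (q.1, b) ∉ P.comp t := fun h => q.2 (by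
      have hb1 : (if b then t else s') ≠ 1 := fun e1 => by simpa [e1] using (hb b).2
      rw [← q.1.out_eq']
      exact QuotientGroup.eq.mpr (by
        rw [mul_one]
        exact inv_mem (P.mem_normalizer_of_conj ht1 (hb b).1 hb1 h)))
    have ho : orderOf (f (q.1, b)) = 2 := by rw [show orderOf (f (q.1, b)) = _ from orderOf_conj _ _, (hb b).2]
    haveI : Fact (Nat.Prime 2) := ⟨Nat.prime_two⟩
    obtain ⟨d, hd, hdo, hcm⟩ := exists_fixed (P.nilpotent (fun C => no_frobenius_of_simple C) ht1)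
      (ht ▸ Subgroup.orderOf_dvd_natCard _ (P.self_mem t ht1)) hmem (k := 1)
      (by rw [pow_one, ← ho, pow_orderOf_eq_one])
    exact hnotH (hA d hd hdo (mem_centralizer_singleton_iff.mpr hcm.eq))
  -- two of them share a coset
  obtain ⟨a, a', hne, hco⟩ : ∃ a a' : {q : G ⧸ M // q ≠ ((1 : G) : G ⧸ M)} × Bool, a ≠ a' ∧
      ((f (a.1.1, a.2) : G) : G ⧸ M) = ((f (a'.1.1, a'.2) : G) : G ⧸ M) := by
    let g : {q : G ⧸ M // q ≠ ((1 : G) : G ⧸ M)} × Bool → {q : G ⧸ M // q ≠ ((1 : G) : G ⧸ M)} :=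
      fun a => ⟨((f (a.1.1, a.2) : G) : G ⧸ M), fun e => hout a.1 a.2 (by
        have := QuotientGroup.eq.mp e
        rwa [mul_one, inv_mem_iff] at this)⟩
    haveI := Fintype.ofFinite {q : G ⧸ M // q ≠ ((1 : G) : G ⧸ M)}
    have hpos : 0 < Fintype.card {q : G ⧸ M // q ≠ ((1 : G) : G ⧸ M)} := by
      obtain ⟨c, hc⟩ : ∃ c : G, c ∉ M := by
        by_contra hh
        push Not at hh
        exact hN ((Subgroup.eq_top_iff' M).mpr hh)
      exact Fintype.card_pos_iff.mpr ⟨⟨(c : G ⧸ M), fun e => hc (by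
        have := QuotientGroup.eq.mp e
        rwa [mul_one, inv_mem_iff] at this)⟩⟩
    obtain ⟨a, a', hne, he⟩ := Fintype.exists_ne_map_eq_of_card_lt g (by
      rw [Fintype.card_prod, Fintype.card_bool]
      omega)
    exact ⟨a, a', hne, congrArg Subtype.val he⟩
  refine ⟨f (a.1.1, a.2), f (a'.1.1, a'.2), fun e => hne ?_, ?_, ?_, hout a.1 a.2, ?_, ?_⟩
  · have := hinj e
    simp only [Prod.mk.injEq] at this
    exact Prod.ext (Subtype.ext this.1) this.2
  · rw [show orderOf (f (a.1.1, a.2)) = _ from orderOf_conj _ _, (hb a.2).2]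
  · rw [show orderOf (f (a'.1.1, a'.2)) = _ from orderOf_conj _ _, (hb a'.2).2]
  · have hv : orderOf (f (a'.1.1, a'.2)) = 2 := by
      rw [show orderOf (f (a'.1.1, a'.2)) = _ from orderOf_conj _ _, (hb a'.2).2]
    have := QuotientGroup.eq.mp hco.symm
    rwa [inv_eq_self_of_orderOf hv] at this
  · intro d hd
    obtain ⟨hbm, hbo⟩ := hb a.2
    have hb1 : (if a.2 then t else s') ≠ 1 := fun e1 => by simp [e1] at hbo
    set o := a.1.1.out with ho
    set b := (if a.2 then t else s') with hbdef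
    have h1 : o⁻¹ * d * o ∈ P.comp t := hA b hbm hbo (mem_centralizer_singleton_iff.mpr (by
      have hd' : d * (o * b * o⁻¹) = o * b * o⁻¹ * d := mem_centralizer_singleton_iff.mp hd
      calc o⁻¹ * d * o * b = o⁻¹ * (d * (o * b * o⁻¹)) * o := by group
        _ = o⁻¹ * (o * b * o⁻¹ * d) * o := by rw [hd']
        _ = b * (o⁻¹ * d * o) := by group))
    rw [← P.comp_eq t b ht1 hb1 hbm] at h1
    have h2 := (P.conj_iff o b _ hb1).mp h1
    rwa [show o * (o⁻¹ * d * o) * o⁻¹ = d by group] at h2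

/-- All centralisers of involutions in the component: impossible. -/
theorem caseA (hna : ∃ a b : G, a * b ≠ b * a) (ht : orderOf t = 2) {y : G} (hy : y ∈ P.comp t) {p : ℕ}
    (hp : p.Prime) (hp2 : p ≠ 2) (hyo : orderOf y = p)
    (hA : ∀ s ∈ P.comp t, orderOf s = 2 → centralizer ({s} : Set G) ≤ P.comp t) : False := by
  classical
  haveI : Fact (Nat.Prime 2) := ⟨Nat.prime_two⟩
  have hF := fun C : Subgroup G => no_frobenius_of_simple C
  have ht1 : t ≠ 1 := fun e => by simp [e] at ht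
  have hnil := P.nilpotent hF ht1
  have htH := P.self_mem t ht1
  have h2d : 2 ∣ Nat.card (P.comp t) := ht ▸ Subgroup.orderOf_dvd_natCard _ htH
  have hpd : p ∣ Nat.card (P.comp t) := hyo ▸ Subgroup.orderOf_dvd_natCard _ hy
  set M := normalizer (P.comp t : Set G) with hM
  have hHM : P.comp t ≤ M := Subgroup.le_normalizer
  obtain ⟨x, hxM, hxH⟩ : ∃ x ∈ M, x ∉ P.comp t := by
    by_contra hh
    push Not at hh
    exact hF _ (P.frobenius_of_self_normalizing ht1 hh)
  have hMtop : M ≠ ⊤ := fun e => by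
    haveI : (P.comp t).Normal := Subgroup.normalizer_eq_top_iff.mp e
    have := CITUse.not_normal_nilpotent hna hnil
    exact ht1 (Subgroup.mem_bot.mp (this ▸ htH))
  by_cases hbad : ∃ h ∈ P.comp t, h ≠ 1 ∧ ∃ z, z ∉ P.comp t ∧ Commute z h
  · obtain ⟨h, hh, hh1, z, hzH, hc⟩ := hbad
    obtain ⟨he, hr⟩ := P.orderOf_of_commute ht1 hh hh1 hzH hc
    set r := orderOf z with hrz
    haveI := Fact.mk hr
    have hr2 : r ≠ 2 := fun e => hzH (hA h hh (he.symm.trans e) (mem_centralizer_singleton_iff.mpr hc.eq))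
    have hrd : r ∣ Nat.card (P.comp t) := he ▸ Subgroup.orderOf_dvd_natCard _ hh
    have hzM : z ∈ M := P.mem_normalizer_of_commute ht1 hh hh1 hc
    have hMc : ∀ g ∈ M, g ≠ 1 → ¬ M ≤ P.comp g := fun g hg hg1 hle => by
      have := P.comp_eq g t hg1 ht1 (hle (hHM htH))
      exact hxH (this ▸ hle hxM)
    set PM := P.restrict M hMc with hPM
    have hta : (⟨t, hHM htH⟩ : M) ≠ 1 := fun e => ht1 (congrArg Subtype.val e)
    haveI : (PM.comp ⟨t, hHM htH⟩).Normal := Subgroup.normal_subgroupOf_of_le_normalizer le_rfl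
    have hcard : Nat.card (PM.comp ⟨t, hHM htH⟩) = Nat.card (P.comp t) :=
      Nat.card_congr (Subgroup.subgroupOfEquivOfLe hHM).toEquiv
    have hout : ∀ g ∈ M, g ∉ P.comp t → g ^ r = 1 := by
      rcases PM.exp_or_pgroup hta (p := r) (by rw [hcard]; exact hrd) (z := ⟨z, hzM⟩) (fun h' => hzH h')
        (by rw [Subgroup.orderOf_mk]) with h1 | h1
      · exact fun g hg hgH => congrArg Subtype.val (h1 ⟨g, hg⟩ hgH)
      · obtain ⟨i, hi⟩ := IsPGroup.iff_card.mp h1
        rw [hcard] at hi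
        exact absurd ((Nat.prime_dvd_prime_iff_eq Nat.prime_two hr).mp
          (Nat.prime_two.dvd_of_dvd_pow (hi ▸ h2d))) hr2.symm
    have hxt : x * t * x⁻¹ ≠ t := fun e =>
      hxH (hA t htH ht (mem_centralizer_singleton_iff.mpr (mul_inv_eq_iff_eq_mul.mp e)))
    obtain ⟨u, v, hne, huo, hvo, hu, hvu, huC⟩ := many_outside P ht hxM hxt hA hMtop
    have hk1 : v * u ≠ 1 := fun e => hne (by
      rw [← inv_eq_of_mul_eq_one_right e, inv_eq_self_of_orderOf hvo])
    exact no_inverting P ht1 hr2 hrd hnil hout huo hu huC (P.nilpotent hF fun e => by simp [e] at huo)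
      hvu hk1 (by rw [_root_.mul_inv_rev, inv_eq_self_of_orderOf huo, inv_eq_self_of_orderOf hvo,
        show u * (v * u) * u = u * v * (u * u) by group, mul_self_eq_one_of_orderOf huo, mul_one])
  · push Not at hbad
    have hcent : ∀ h ∈ P.comp t, h ≠ 1 → centralizer ({h} : Set G) ≤ P.comp t := fun h hh hh1 z hz =>
      by_contra fun hzH => hbad h hh hh1 z hzH (mem_centralizer_singleton_iff.mp hz)
    refine CITUse.no_mixed_nilpotent hna (P.comp t) hnil ?_ (fun g hg => (Subgroup.eq_bot_iff_forall _).mpr fun z hz => ?_)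
      hcent h2d hp hp2 hpd
    · refine Nat.coprime_of_dvd fun q hq hqH hqI => ?_
      haveI := Fact.mk hq
      obtain ⟨Q, hQ⟩ := (isPGroup_pPart (P.comp t) hnil q).exists_le_sylow
      obtain ⟨w, hwQ, hwH⟩ : ∃ w ∈ (Q : Subgroup G), w ∉ P.comp t := by
        by_contra hh
        push Not at hh
        exact Q.not_dvd_index (hqI.trans (Subgroup.index_dvd_of_le hh))
      obtain ⟨d0, hd0⟩ := exists_prime_orderOf_dvd_card' (G := P.comp t) q hqH
      have hd0o : orderOf (d0 : G) = q := by rwa [Subgroup.orderOf_coe]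
      haveI : Group.IsNilpotent (Q : Subgroup G) := Q.2.isNilpotent
      set R := (P.comp t).subgroupOf (Q : Subgroup G) with hR
      obtain ⟨⟨n, hnQ⟩, hnN, hnR⟩ := SetLike.exists_of_lt (normalizerCondition_of_isNilpotent R
        (lt_top_iff_ne_top.mpr fun e => hwH (Subgroup.subgroupOf_eq_top.mp e hwQ)))
      have hd0Q : (d0 : G) ∈ Q := hQ (mem_pPart.mpr ⟨d0.2, 1, by rw [pow_one, ← hd0o, pow_orderOf_eq_one]⟩)
      have h1 : (d0 : G) ≠ 1 := fun e => hq.ne_one (by rw [← hd0o, e, orderOf_one])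
      have hnM : n ∈ M := P.mem_normalizer_of_conj ht1 d0.2 h1
        ((Subgroup.mem_normalizer_iff.mp hnN ⟨d0, hd0Q⟩).mp d0.2)
      obtain ⟨k, hk⟩ := Q.2 ⟨n, hnQ⟩
      obtain ⟨d, hd, hdo, hcm⟩ := exists_fixed hnil hqH hnM (k := k) (congrArg Subtype.val hk)
      exact hnR (hcent d hd (fun e => hq.ne_one (by rw [← hdo, e, orderOf_one]))
        (mem_centralizer_singleton_iff.mpr hcm.eq))
    · obtain ⟨hz1, w, hw, rfl⟩ := Subgroup.mem_inf.mp hz
      by_contra hne
      have hw1 : w ≠ 1 := fun e => hne (by simp [e])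
      have hgM := P.mem_normalizer_of_conj ht1 hw hw1 hz1
      refine hg (Subgroup.ext fun z' => ⟨?_, fun hz' => ⟨g⁻¹ * z' * g, ?_, by simp [mul_assoc]⟩⟩)
      · rintro ⟨a, ha, rfl⟩
        exact (Subgroup.mem_normalizer_iff.mp hgM a).mp ha
      · refine (Subgroup.mem_normalizer_iff.mp hgM _).mpr ?_
        rwa [show g * (g⁻¹ * z' * g) * g⁻¹ = z' by group]

end CfsgLib.Partition
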