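import Cfsg.Agent.Lib.Partition.Dihedral
import Cfsg.Agent.Lib.Fusion.RankTwoSimple
import Cfsg.Agent.Lib.BSW.Zassenhaus
import Cfsg.Agent.Lib.SLCard

/-!
A simple group with a partition and a centraliser of an involution outside its component.
-/

set_option autoImplicit false
set_option linter.unusedSectionVars false
set_option linter.style.haveILetI false

namespace CfsgLib.Partition

open Subgroup
open CfsgLib.Involutions (mul_self_eq_one_of_orderOf inv_eq_self_of_orderOf)

universe u

variable {G : Type u} [Group G] [Finite G] [IsSimpleGroup G]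

/-- Thompson transfer in a simple group. -/
theorem transfer (h4 : 4 ≤ Nat.card G) (M : Subgroup G) (hM : ∃ m, Odd m ∧ M.index = 2 * m) {u : G}
    (hu : orderOf u = 2) : ∃ c : G, c⁻¹ * u * c ∈ M := by
  by_contra hh
  push Not at hh
  obtain ⟨m, hm, hi⟩ := hM
  obtain ⟨K, hK, hKi⟩ := RankTwoSimple.exists_index_two M hi hm (mul_self_eq_one_of_orderOf hu) hh
  exact RankTwoSimple.not_index_two h4 hK hKi

variable (P : Part G) {s y g : G}

theorem dih_of_data (hs : orderOf s = 2) (hy : y ∈ P.comp s) {p : ℕ} (hp : p.Prime) (hp2 : p ≠ 2)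
    (hyo : orderOf y = p) (hg : g ∉ P.comp s) (hc : Commute g s) : Dih P s g := by
  have hs1 : s ≠ 1 := fun e => by simp [e] at hs
  refine ⟨hs1, (P.orderOf_of_commute hs1 (P.self_mem s hs1) hs1 hg hc).1.trans hs,
    P.mem_normalizer_of_commute hs1 (P.self_mem s hs1) hs1 hc, hg, fun n => ?_⟩
  by_cases hn : n = 2
  · exact ⟨y, hy, fun e => hp.ne_one (by rw [← hyo, e, orderOf_one]), fun h => hp2 (by rw [← hyo, ← h.1, hn])⟩
  · exact ⟨s, P.self_mem s hs1, hs1, fun h => hn (h.1.trans hs)⟩

/-- The component contains only one involution. -/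
theorem unique_invol (h4 : 4 ≤ Nat.card G) (D : Dih P s g) (hs : orderOf s = 2) :
    ∀ v ∈ P.comp s, orderOf v = 2 → v = s := by
  intro v hv hvo
  by_contra hvs
  have hs' := P.self_mem s D.ha
  have hv1 : v ≠ 1 := fun e => by simp [e] at hvo
  have hs2 : s ^ 2 ^ 1 = 1 := by rw [pow_one, ← hs, pow_orderOf_eq_one]
  have hv2 : v ^ 2 ^ 1 = 1 := by rw [pow_one, ← hvo, pow_orderOf_eq_one]
  have hsv : s * v ≠ 1 := fun e => hvs (by
    rw [← inv_eq_of_mul_eq_one_right e, inv_eq_self_of_orderOf hs])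
  obtain ⟨S, hS⟩ := D.sylow_le hs' hv D.ha hv1 hsv hs2 hv2
  have h2 : 2 ∣ Nat.card (P.comp s) := hs ▸ Subgroup.orderOf_dvd_natCard _ hs'
  obtain ⟨c, hc⟩ := transfer h4 _ (D.index_of_sylow h2 S hS) D.hg
  set z := c⁻¹ * g * c with hz
  have hzo : orderOf z = 2 := by
    have := Involutions.orderOf_conj c⁻¹ g
    rwa [inv_inv, ← hz, D.hg] at this
  have key : ∀ u ∈ P.comp s, orderOf u = 2 → c⁻¹ * u * c * g ∈ P.comp s := by
    intro u hu huo
    have hcomm : Commute (c⁻¹ * u * c) z := by
      have := ((D.commute_invol hu huo).symm.map (MulAut.conj c⁻¹).toMonoidHom)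
      simpa [hz] using this
    refine (D.centralizer_cases hc hzo hcomm).resolve_left fun h => D.hga ?_
    have hu1 : u ≠ 1 := fun e => by simp [e] at huo
    have hN := P.mem_normalizer_of_conj D.ha hu hu1 (y := c⁻¹) (by rwa [inv_inv])
    refine (Subgroup.mem_normalizer_iff.mp hN g).mpr ?_
    rwa [inv_inv]
  have h1 := D.mul_coset (key s hs' hs) (key v hv hvo)
  rw [show c⁻¹ * s * c * (c⁻¹ * v * c) = c⁻¹ * (s * v) * c by group] at h1
  have hN := P.mem_normalizer_of_conj D.ha (mul_mem hs' hv) hsv (y := c⁻¹) (by rwa [inv_inv])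
  refine D.hga ((Subgroup.mem_normalizer_iff.mp hN g).mpr ?_)
  rwa [inv_inv]

/-- The index of the component. -/
theorem index_component (h4 : 4 ≤ Nat.card G) (D : Dih P s g) (hs : orderOf s = 2) :
    ∃ m, Odd m ∧ (P.comp s).index = 2 * m := by
  haveI : Fact (Nat.Prime 2) := ⟨Nat.prime_two⟩
  have hs' := P.self_mem s D.ha
  have h2 : 2 ∣ Nat.card (P.comp s) := hs ▸ Subgroup.orderOf_dvd_natCard _ hs'
  by_cases h4' : ∃ d ∈ P.comp s, ∃ k, d ^ 2 ^ k = 1 ∧ d * d ≠ 1
  · obtain ⟨d, hd, k, hk, hdd⟩ := h4'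
    obtain ⟨S, hS⟩ := D.sylow_le hd hd (fun e => hdd (by rw [e, one_mul])) (fun e => hdd (by rw [e, one_mul])) hdd hk hk
    exact D.index_of_sylow h2 S hS
  push Not at h4'
  -- the elements of 2-power order of the component
  have htwo : ∀ d ∈ P.comp s, ∀ k, d ^ 2 ^ k = 1 → d = 1 ∨ d = s := by
    intro d hd k hk
    refine or_iff_not_imp_left.mpr fun hd1 => unique_invol P h4 D hs d hd ?_
    exact orderOf_eq_prime (by rw [pow_two]; exact h4' d hd k hk) hd1
  obtain ⟨S, hS, hgS⟩ := D.exists_sylow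
  have hsS : s ∈ S := hS s hs' ⟨1, by rw [pow_one, ← hs, pow_orderOf_eq_one]⟩
  by_cases hSN : (S : Subgroup G) ≤ normalizer (P.comp s : Set G)
  · exact D.index_of_sylow h2 S hSN
  exfalso
  obtain ⟨x, hxS, hxN, hconj⟩ := D.exists_mover S hSN
  have hgg := mul_self_eq_one_of_orderOf D.hg
  have hcases : ∀ q ∈ S, q ∈ normalizer (P.comp s : Set G) → q ∉ P.comp s → q = g ∨ q = s * g := by
    intro q hq hqN hqH
    obtain ⟨k, hk⟩ := S.2 ⟨q, hq⟩
    have hqg := (D.norm_two h2 hqN (k := k) (congrArg Subtype.val hk)).resolve_left hqH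
    obtain ⟨j, hj⟩ := S.2 ⟨q * g, mul_mem hq hgS⟩
    rcases htwo _ hqg j (congrArg Subtype.val hj) with e | e
    · exact Or.inl (by rw [← mul_inv_eq_one, inv_eq_self_of_orderOf D.hg]; exact e)
    · exact Or.inr (by rw [← e, mul_assoc, hgg, mul_one])
  set z := x * s * x⁻¹ with hz
  obtain ⟨hzS, hzN⟩ : z ∈ S ∧ z ∈ normalizer (P.comp s : Set G) := hconj s hsS (Subgroup.le_normalizer hs')
  have hzH : z ∉ P.comp s := fun h => hxN (P.mem_normalizer_of_conj D.ha hs' D.ha h)
  have hzo : orderOf z = 2 := by rw [hz, Involutions.orderOf_conj, hs]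
  have hzs : Commute z s := by
    rcases hcases z hzS hzN hzH with e | e <;> rw [e]
    · exact D.commute_invol hs' hs
    · exact (Commute.refl s).mul_left (D.commute_invol hs' hs)
  obtain ⟨hz'S, hz'N⟩ := hconj z hzS hzN
  have hswap : x * z * x⁻¹ = s := by
    have hne1 : x * z * x⁻¹ ≠ 1 := fun e => by simp [conj_eq_one_iff.mp e] at hzo
    have hnez : x * z * x⁻¹ ≠ z := fun e => hzH (by
      have : z = s := mul_left_cancel (mul_right_cancel (e.trans hz))
      rw [this]; exact hs')
    by_cases hz'H : x * z * x⁻¹ ∈ P.comp s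
    · obtain ⟨k, hk⟩ := S.2 ⟨_, hz'S⟩
      exact (htwo _ hz'H k (congrArg Subtype.val hk)).resolve_left hne1
    exfalso
    have he : x * z * x⁻¹ = s * z := by
      have hsg : s * (s * g) = g := by rw [← mul_assoc, mul_self_eq_one_of_orderOf hs, one_mul]
      rcases hcases z hzS hzN hzH with e | e <;> rcases hcases _ hz'S hz'N hz'H with e' | e'
      · exact absurd (e'.trans e.symm) hnez
      · rw [e', e]
      · rw [e', e, hsg]
      · exact absurd (e'.trans e.symm) hnez
    have h3 : x ^ 3 * s * (x ^ 3)⁻¹ = s := by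
      calc x ^ 3 * s * (x ^ 3)⁻¹ = x * (x * (x * s * x⁻¹) * x⁻¹) * x⁻¹ := by
            rw [pow_succ, pow_two]; group
        _ = x * (s * z) * x⁻¹ := by rw [← hz, he]
        _ = z * (s * z) := by rw [hz]; rw [← hz, show x * (s * z) * x⁻¹ = x * s * x⁻¹ * (x * z * x⁻¹) by group, ← hz, he]
        _ = s := by rw [← mul_assoc, hzs.eq, mul_assoc, mul_self_eq_one_of_orderOf hzo, mul_one]
    have h3' : x ^ 3 ∈ normalizer (P.comp s : Set G) :=
      P.mem_normalizer_of_commute D.ha hs' D.ha (mul_inv_eq_iff_eq_mul.mp h3)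
    obtain ⟨l, hl⟩ := S.2 ⟨x, hxS⟩
    have hl' : x ^ 2 ^ l = 1 := congrArg Subtype.val hl
    obtain ⟨n, hn⟩ := exists_pow_eq_self_of_coprime (x := x) (n := 3)
      ((Nat.Coprime.pow_right l (by norm_num : Nat.Coprime 3 2)).coprime_dvd_right (orderOf_dvd_of_pow_eq_one hl'))
    exact hxN (hn ▸ pow_mem h3' n)
  set w := s * z with hw
  have hwo : orderOf w = 2 := by
    refine orderOf_eq_prime ?_ fun e => hzH ?_
    · rw [hw, pow_two, show s * z * (s * z) = s * (z * s) * z by group, hzs.eq,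
        show s * (s * z) * z = (s * s) * (z * z) by group, mul_self_eq_one_of_orderOf hs,
        mul_self_eq_one_of_orderOf hzo, one_mul]
    · rw [← inv_eq_of_mul_eq_one_right e, inv_eq_self_of_orderOf hs]
      exact hs'
  have hw1 : w ≠ 1 := fun e => by simp [e] at hwo
  have hwH : w ∉ P.comp s := fun h => hzH ((Subgroup.mul_mem_cancel_left _ hs').mp h)
  set K := P.comp w with hK
  have hxw : Commute x w := by
    refine mul_inv_eq_iff_eq_mul.mp ?_
    rw [hw, show x * (s * z) * x⁻¹ = x * s * x⁻¹ * (x * z * x⁻¹) by group, hswap, ← hz, hzs.eq]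
  have hsw : Commute s w := (Commute.refl s).mul_right hzs.symm
  have hsK : s ∉ K := fun h => hwH (P.comp_eq w s hw1 D.ha h ▸ P.self_mem w hw1)
  have hwK : w ∈ K := P.self_mem w hw1
  have hsN : s ∈ normalizer (K : Set G) := P.mem_normalizer_of_commute hw1 hwK hw1 hsw
  -- an element of order four of the new component
  obtain ⟨k, hkK, hkk⟩ : ∃ k ∈ K, k * k = w := by
    by_cases hxo : orderOf x = 2
    · refine ⟨x * s, ?_, ?_⟩
      · have hxs : x * s * (x * s) = w := by
          rw [show x * s * (x * s) = x * s * x * s by group, hw]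
          conv_lhs => rw [show x * s * x = x * s * x⁻¹ by rw [inv_eq_self_of_orderOf hxo], ← hz, hzs.eq]
        refine P.mem_of_composite hw1 hwK hw1 (hxw.mul_left hsw) fun hpr => ?_
        obtain ⟨i, hi⟩ := S.2 ⟨x * s, mul_mem hxS hsS⟩
        have h2' : orderOf (x * s) = 2 := (Nat.prime_dvd_prime_iff_eq hpr Nat.prime_two).mp
          (hpr.dvd_of_dvd_pow (orderOf_dvd_of_pow_eq_one (congrArg Subtype.val hi : (x * s) ^ 2 ^ i = 1)))
        rw [mul_self_eq_one_of_orderOf h2'] at hxs
        exact hw1 hxs.symm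
      · rw [show x * s * (x * s) = x * s * x * s by group, hw]
        conv_lhs => rw [show x * s * x = x * s * x⁻¹ by rw [inv_eq_self_of_orderOf hxo], ← hz, hzs.eq]
    · have hxK : x ∈ K := by_contra fun h => hxo ((P.orderOf_of_commute hw1 hwK hw1 h hxw).1.trans hwo)
      refine ⟨x, hxK, ?_⟩
      have h1 := P.inverts hw1 hs hsN hsK (inv_mem hxK)
      rw [inv_inv] at h1
      calc x * x = x * (s * x⁻¹ * s⁻¹) := by rw [h1]
        _ = z * s := by rw [hz, inv_eq_self_of_orderOf hs]; group
        _ = w := hzs.eq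
  have hk4 : k ^ 2 ^ 2 = 1 := by
    rw [show (2 : ℕ) ^ 2 = 2 * 2 by norm_num, pow_mul, pow_two k, hkk, pow_two, mul_self_eq_one_of_orderOf hwo]
  have hko : ¬ (orderOf k).Prime := fun hpr => by
    have : orderOf k = 2 := (Nat.prime_dvd_prime_iff_eq hpr Nat.prime_two).mp
      (hpr.dvd_of_dvd_pow (orderOf_dvd_of_pow_eq_one hk4))
    rw [mul_self_eq_one_of_orderOf this] at hkk
    exact hw1 hkk.symm
  have hk1 : k ≠ 1 := fun e => hw1 (by rw [← hkk, e, one_mul])
  have D' : Dih P w s := ⟨hw1, hs, hsN, hsK, fun n => ⟨k, hkK, hk1, fun h => hko (h.1 ▸ h.2)⟩⟩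
  obtain ⟨S', hS'⟩ := D'.sylow_le hkK hkK hk1 hk1 (by rw [hkk]; exact hw1) hk4 hk4
  obtain ⟨c, hc⟩ := transfer h4 K (D'.index_of_sylow (hwo ▸ Subgroup.orderOf_dvd_natCard _ hwK) S' hS') hs
  have hco : orderOf (c⁻¹ * s * c) = 2 := by
    have := Involutions.orderOf_conj c⁻¹ s
    rwa [inv_inv, hs] at this
  -- the only involution of the new component
  have hcw : c⁻¹ * s * c = w := by
    by_contra hne
    have h1 : Commute (c⁻¹ * s * c) s := (D'.commute_invol hc hco).symm
    set u := c⁻¹ * s * c with hu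
    have huw : Commute u w := D'.comm hc hwK
    rcases D.centralizer_cases hs' hs h1 with huH | hug
    · have hu1 : u ≠ 1 := fun e => by simp [e] at hco
      refine hwH ?_
      rw [← P.comp_eq s u D.ha hu1 huH, P.comp_eq w u hw1 hu1 hc]
      exact hwK
    · have hwg := (D.centralizer_cases hs' hs hsw.symm).resolve_left hwH
      have hmem := D.mul_coset hug hwg
      by_cases huw1 : u * w = 1
      · exact hne (by rw [← inv_eq_of_mul_eq_one_right huw1, inv_eq_self_of_orderOf hco])
      · refine hwH ?_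
        rw [← P.comp_eq s _ D.ha huw1 hmem, P.comp_eq w _ hw1 huw1 (mul_mem hc hwK)]
        exact hwK
  have hck : Commute (c * k * c⁻¹) s := by
    have h1 : Commute k w := D'.comm hkK hwK
    have h2 := h1.map (MulAut.conj c).toMonoidHom
    simp only [MulEquiv.coe_toMonoidHom, MulAut.conj_apply] at h2
    rwa [show c * w * c⁻¹ = s by rw [← hcw]; group] at h2
  have hmem : c * k * c⁻¹ ∈ P.comp s := P.mem_of_composite D.ha hs' D.ha hck (by rwa [Involutions.orderOf_conj])
  have h1 := h4' _ hmem 2 (by rw [conj_pow, hk4, mul_one, mul_inv_cancel])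
  rw [show c * k * c⁻¹ * (c * k * c⁻¹) = c * (k * k) * c⁻¹ by group, hkk, conj_eq_one_iff] at h1
  exact hw1 h1

/-- The group is a projective special linear group. -/
theorem caseB (hna : ∃ a b : G, a * b ≠ b * a) (hs : orderOf s = 2) (hy : y ∈ P.comp s) {p : ℕ} (hp : p.Prime)
    (hp2 : p ≠ 2) (hyo : orderOf y = p) (hg : g ∉ P.comp s) (hc : Commute g s) :
    ∃ (F : Type) (_ : Field F) (_ : Fintype F), 4 ≤ Fintype.card F ∧
      Nonempty (G ≃* Matrix.ProjectiveSpecialLinearGroup (Fin 2) F) := by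
  classical
  have D := dih_of_data P hs hy hp hp2 hyo hg hc
  have hs' := P.self_mem s D.ha
  have h4 : 4 ≤ Nat.card G := by
    have hy1 : 2 * p ∣ Nat.card (P.comp s) := Nat.Coprime.mul_dvd_of_dvd_of_dvd
      ((Nat.coprime_primes Nat.prime_two hp).mpr hp2.symm) (hs ▸ Subgroup.orderOf_dvd_natCard _ hs')
      (hyo ▸ Subgroup.orderOf_dvd_natCard _ hy)
    have h1 := Nat.le_of_dvd Nat.card_pos (hy1.trans (Subgroup.card_subgroup_dvd_card _))
    have := hp.two_le
    omega
  have huniq := unique_invol P h4 D hs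
  have hidx := index_component P h4 D hs
  have hgg := mul_self_eq_one_of_orderOf D.hg
  have hNC : ∀ x ∈ normalizer (P.comp s : Set G), Commute x s := fun x hx =>
    mul_inv_eq_iff_eq_mul.mp (huniq _ ((Subgroup.mem_normalizer_iff.mp hx s).mp hs')
      (by rw [Involutions.orderOf_conj, hs]))
  have hH : P.comp s ⊔ zpowers g = centralizer ({s} : Set G) := by
    refine le_antisymm (sup_le (fun x hx => mem_centralizer_singleton_iff.mpr (D.comm hx hs').eq)
      (zpowers_le.mpr (mem_centralizer_singleton_iff.mpr hc.eq))) fun x hx => ?_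
    rcases D.centralizer_cases hs' hs (mem_centralizer_singleton_iff.mp hx) with h | h
    · exact Subgroup.mem_sup_left h
    · have := mul_mem (Subgroup.mem_sup_left (T := zpowers g) h)
        (Subgroup.mem_sup_right (S := P.comp s) (mem_zpowers g))
      rwa [mul_assoc, hgg, mul_one] at this
  let S : BSW.Setup G :=
    { t := s
      K := P.comp s
      s := g
      ht := hs
      comm := fun x hx z hz => (D.comm hx hz).eq
      htK := hs'
      hs := D.hg
      hsK := hg
      hH := hH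
      hCK := by
        refine le_antisymm (fun x hx => ?_) (zpowers_le.mpr ⟨hs', mem_centralizer_singleton_iff.mpr hc.symm.eq⟩)
        obtain ⟨hxH, hxg⟩ := Subgroup.mem_inf.mp hx
        have h1 := D.inv hxH
        rw [← mem_centralizer_singleton_iff.mp hxg, mul_inv_cancel_right, eq_inv_iff_mul_eq_one] at h1
        by_cases hx1 : x = 1
        · rw [hx1]; exact one_mem _
        · rw [huniq x hxH (orderOf_eq_prime (by rw [pow_two]; exact h1) hx1)]
          exact mem_zpowers s
      hinv := fun x hx => D.inv hx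
      hTI := fun c hc' => (Subgroup.eq_bot_iff_forall _).mpr fun x hx => by
        obtain ⟨hxH, h, hh, rfl⟩ := Subgroup.mem_inf.mp hx
        by_contra h1
        have hh1 : h ≠ 1 := fun e => h1 (by simp [e])
        exact hc' (mem_centralizer_singleton_iff.mpr (hNC c (P.mem_normalizer_of_conj D.ha hh hh1 hxH)).eq)
      hconj := by
        have key : ∀ u : G, orderOf u = 2 → IsConj s u := by
          intro u hu
          obtain ⟨c, hc'⟩ := transfer h4 _ hidx hu
          have : c⁻¹ * u * c = s := huniq _ hc' (by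
            have := Involutions.orderOf_conj c⁻¹ u
            rwa [inv_inv, hu] at this)
          exact isConj_iff.mpr ⟨c, by rw [← this]; group⟩
        exact fun x z hx hz => (key x hx).symm.trans (key z hz) }
  haveI := Fintype.ofFinite G
  obtain ⟨F, iF, iFt, hodd, ⟨e⟩⟩ := BSW.psl2_of_concl (BSW.Setup.conclusion S)
  refine ⟨F, iF, iFt, ?_, ⟨e⟩⟩
  by_contra hlt
  have hF3 : Fintype.card F = 3 := by
    have := Fintype.one_lt_card (α := F)
    obtain ⟨k, hk⟩ := hodd
    omega
  have hG : Nat.card G = 12 := by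
    have h1 := SLCard.gcd_mul_card_PSL (F := F) (n := 2) (by norm_num)
    rw [SLCard.card_SL_two, hF3, ← Nat.card_congr e.toEquiv] at h1
    have h2 : 2 * Nat.card G = 24 := h1
    omega
  have hHK : Nat.card (centralizer ({s} : Set G)) = 2 * Nat.card (P.comp s) := S.card_H
  have hdvd : 2 * p ∣ Nat.card (P.comp s) := Nat.Coprime.mul_dvd_of_dvd_of_dvd
    ((Nat.coprime_primes Nat.prime_two hp).mpr hp2.symm) (hs ▸ Subgroup.orderOf_dvd_natCard _ hs')
    (hyo ▸ Subgroup.orderOf_dvd_natCard _ hy)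
  have hCtop : centralizer ({s} : Set G) = ⊤ := by
    refine Subgroup.eq_top_of_le_card _ ?_
    rw [hG, hHK]
    have := Nat.le_of_dvd Nat.card_pos hdvd
    have := hp.two_le
    omega
  have hsc : s ∈ center G := mem_center_iff.mpr fun x => mem_centralizer_singleton_iff.mp (hCtop ▸ mem_top x)
  rcases (inferInstance : (center G).Normal).eq_bot_or_eq_top with e' | e'
  · exact D.ha (mem_bot.mp (e' ▸ hsc))
  · obtain ⟨a, b, hab⟩ := hna
    exact hab (mem_center_iff.mp (show b ∈ center G from e' ▸ mem_top b) a)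

end CfsgLib.Partition
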