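import Cfsg.Agent.Lib.Partition.Parts

/-!
A component with an involution normalising it from outside: the Sylow 2-subgroup.
-/

set_option autoImplicit false
set_option linter.unusedSectionVars false
set_option linter.style.haveILetI false

namespace CfsgLib.Partition

open Subgroup
open CfsgLib.Involutions (mul_self_eq_one_of_orderOf inv_eq_self_of_orderOf)

universe u

variable {G : Type u} [Group G] [Finite G]

/-- A component normalised from outside by an involution, with no common prime order. -/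
structure Dih (P : Part G) (a g : G) : Prop where
  ha : a ≠ 1
  hg : orderOf g = 2
  hN : g ∈ normalizer (P.comp a : Set G)
  hga : g ∉ P.comp a
  mix : ∀ n : ℕ, ∃ h ∈ P.comp a, h ≠ 1 ∧ ¬ (n = orderOf h ∧ n.Prime)

namespace Dih

variable {P : Part G} {a g : G} (D : Dih P a g)

include D

theorem comm {x y : G} (hx : x ∈ P.comp a) (hy : y ∈ P.comp a) : Commute x y :=
  P.comm_of_involution D.ha D.hg D.hN D.hga hx hy

theorem nil : Group.IsNilpotent (P.comp a) := P.nilpotent_of_normalizer D.ha D.hN D.hga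

theorem inv {h : G} (hh : h ∈ P.comp a) : g * h * g⁻¹ = h⁻¹ := P.inverts D.ha D.hg D.hN D.hga hh

theorem out_invol {x : G} (hx : x ∉ P.comp a) (hxg : x * g ∈ P.comp a) :
    orderOf x = 2 ∧ x ∈ normalizer (P.comp a : Set G) := by
  have e : x = x * g * g := by rw [mul_assoc, mul_self_eq_one_of_orderOf D.hg, mul_one]
  refine ⟨orderOf_eq_prime ?_ fun e1 => hx (e1 ▸ one_mem _), ?_⟩
  · rw [e]
    exact P.coset_pow D.ha D.hN D.hga (by rw [pow_two, mul_self_eq_one_of_orderOf D.hg]; exact one_mem _) hxg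
  · rw [e]
    exact mul_mem (Subgroup.le_normalizer hxg) D.hN

theorem mul_coset {x y : G} (hx : x * g ∈ P.comp a) (hy : y * g ∈ P.comp a) : x * y ∈ P.comp a := by
  have h1 := (Subgroup.mem_normalizer_iff.mp D.hN _).mp hy
  rw [show g * (y * g) * g⁻¹ = g * y by group] at h1
  have := mul_mem hx h1
  rwa [show x * g * (g * y) = x * (g * g) * y by group, mul_self_eq_one_of_orderOf D.hg, mul_one] at this

theorem centralizer_cases {s x : G} (hs : s ∈ P.comp a) (hso : orderOf s = 2) (hc : Commute x s) :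
    x ∈ P.comp a ∨ x * g ∈ P.comp a := by
  refine or_iff_not_imp_left.mpr fun hx => ?_
  have hs1 : s ≠ 1 := fun e => by simp [e] at hso
  have hxo : orderOf x = 2 := (P.orderOf_of_commute D.ha hs hs1 hx hc).1.trans hso
  have hxN := P.mem_normalizer_of_commute D.ha hs hs1 hc
  by_contra hxg
  obtain ⟨h, hh, hh1, hne⟩ := D.mix (orderOf (x * g))
  have hcm : Commute (x * g) h := by
    show x * g * h = h * (x * g)
    have h1 := D.inv hh
    have h2 := P.inverts D.ha hxo hxN hx (inv_mem hh)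
    rw [inv_inv] at h2
    calc x * g * h = x * (g * h * g⁻¹) * x⁻¹ * (x * g) := by group
      _ = h * (x * g) := by rw [h1, h2]
  exact hne (P.orderOf_of_commute D.ha hh hh1 hxg hcm)

theorem commute_invol {s : G} (hs : s ∈ P.comp a) (hso : orderOf s = 2) : Commute g s :=
  mul_inv_eq_iff_eq_mul.mp ((D.inv hs).trans (inv_eq_self_of_orderOf hso))

theorem norm_two (h2 : 2 ∣ Nat.card (P.comp a)) {x : G} (hx : x ∈ normalizer (P.comp a : Set G)) {k : ℕ}
    (hk : x ^ 2 ^ k = 1) : x ∈ P.comp a ∨ x * g ∈ P.comp a := by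
  haveI : Fact (Nat.Prime 2) := ⟨Nat.prime_two⟩
  obtain ⟨d, hd, hdo, hc⟩ := exists_fixed D.nil h2 hx hk
  exact D.centralizer_cases hd hdo hc

/-- A Sylow 2-subgroup inside the normaliser gives the index of the component. -/
theorem index_of_sylow (h2 : 2 ∣ Nat.card (P.comp a)) (S : Sylow 2 G)
    (hS : (S : Subgroup G) ≤ normalizer (P.comp a : Set G)) :
    ∃ m, Odd m ∧ (P.comp a).index = 2 * m := by
  haveI : Fact (Nat.Prime 2) := ⟨Nat.prime_two⟩
  obtain ⟨s0, hs0⟩ := exists_prime_orderOf_dvd_card' (G := P.comp a) 2 h2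
  have hso : orderOf (s0 : G) = 2 := by rwa [Subgroup.orderOf_coe]
  set U := centralizer ({(s0 : G)} : Set G) with hU
  have hHU : P.comp a ≤ U := fun x hx => mem_centralizer_singleton_iff.mpr (D.comm hx s0.2).eq
  have hgU : g ∈ U := mem_centralizer_singleton_iff.mpr (D.commute_invol s0.2 hso).eq
  have hSU : (S : Subgroup G) ≤ U := fun x hx => by
    obtain ⟨k, hk⟩ := S.2 ⟨x, hx⟩
    rcases D.norm_two h2 (hS hx) (k := k) (congrArg Subtype.val hk) with h | h
    · exact hHU h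
    · have := mul_mem (hHU h) hgU
      rwa [mul_assoc, mul_self_eq_one_of_orderOf D.hg, mul_one] at this
  refine ⟨U.index, Nat.odd_iff.mpr (Nat.two_dvd_ne_zero.mp fun h => S.not_dvd_index
    (h.trans (Subgroup.index_dvd_of_le hSU))), ?_⟩
  rw [← Subgroup.relIndex_mul_index hHU]
  congr 1
  show ((P.comp a).subgroupOf U).index = 2
  refine Subgroup.index_eq_two_iff.mpr ⟨⟨g, hgU⟩, fun b => ?_⟩
  simp only [Subgroup.mem_subgroupOf]
  push_cast
  rcases D.centralizer_cases s0.2 hso (mem_centralizer_singleton_iff.mp b.2) with h | h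
  · exact Or.inr ⟨h, fun h' => D.hga ((Subgroup.mul_mem_cancel_left _ h).mp h')⟩
  · exact Or.inl ⟨h, fun h' => D.hga ((Subgroup.mul_mem_cancel_left _ h').mp h)⟩

/-- A Sylow 2-subgroup containing given 2-elements of the component and the involution. -/
theorem exists_sylow :
    ∃ S : Sylow 2 G, (∀ d ∈ P.comp a, (∃ k, d ^ 2 ^ k = 1) → d ∈ S) ∧ g ∈ S := by
  haveI : Fact (Nat.Prime 2) := ⟨Nat.prime_two⟩
  have hZ : IsPGroup 2 (zpowers g) := IsPGroup.of_card (n := 1) (by rw [Nat.card_zpowers, D.hg, pow_one])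
  obtain ⟨S, hS⟩ := ((isPGroup_pPart (P.comp a) D.nil 2).to_sup_of_normal_left' hZ
    (zpowers_le.mpr (normalizer_le_pPart _ D.nil 2 D.hN))).exists_le_sylow
  exact ⟨S, fun d hd hk => hS (Subgroup.mem_sup_left (mem_pPart.mpr ⟨hd, hk⟩)),
    hS (Subgroup.mem_sup_right (mem_zpowers g))⟩

/-- A Sylow 2-subgroup not normalising the component has an element conjugating outside. -/
theorem exists_mover (S : Sylow 2 G) (hns : ¬ (S : Subgroup G) ≤ normalizer (P.comp a : Set G)) :
    ∃ x ∈ S, x ∉ normalizer (P.comp a : Set G) ∧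
      ∀ d ∈ S, d ∈ normalizer (P.comp a : Set G) →
        x * d * x⁻¹ ∈ S ∧ x * d * x⁻¹ ∈ normalizer (P.comp a : Set G) := by
  haveI : Fact (Nat.Prime 2) := ⟨Nat.prime_two⟩
  set Q := (S : Subgroup G) ⊓ normalizer (P.comp a : Set G) with hQ
  haveI : Group.IsNilpotent (S : Subgroup G) := S.2.isNilpotent
  have hlt : Q.subgroupOf (S : Subgroup G) < ⊤ := lt_top_iff_ne_top.mpr fun e =>
    hns fun x hx => ((Subgroup.subgroupOf_eq_top.mp e) hx).2
  obtain ⟨⟨x, hxS⟩, hxn, hxQ⟩ := SetLike.exists_of_lt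
    (normalizerCondition_of_isNilpotent (Q.subgroupOf (S : Subgroup G)) hlt)
  refine ⟨x, hxS, fun h => hxQ ⟨hxS, h⟩, fun d hd hdN => ?_⟩
  exact Subgroup.mem_inf.mp ((Subgroup.mem_normalizer_iff.mp hxn ⟨d, hd⟩).mp (show _ ∈ Q.subgroupOf _ from ⟨hd, hdN⟩))

/-- Two 2-elements of the component with non-trivial product. -/
theorem sylow_le {d e : G} (hd : d ∈ P.comp a) (he : e ∈ P.comp a) (hd1 : d ≠ 1) (he1 : e ≠ 1) (hde : d * e ≠ 1)
    {i j : ℕ} (hi : d ^ 2 ^ i = 1) (hj : e ^ 2 ^ j = 1) :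
    ∃ S : Sylow 2 G, (S : Subgroup G) ≤ normalizer (P.comp a : Set G) := by
  haveI : Fact (Nat.Prime 2) := ⟨Nat.prime_two⟩
  obtain ⟨S, hS, -⟩ := D.exists_sylow
  refine ⟨S, by_contra fun hns => ?_⟩
  obtain ⟨x, -, hxN, hconj⟩ := D.exists_mover S hns
  have h2 : 2 ∣ Nat.card (P.comp a) := by
    obtain ⟨l, -, hl⟩ := (Nat.dvd_prime_pow Nat.prime_two).mp (orderOf_dvd_of_pow_eq_one hi)
    exact (dvd_pow_self 2 fun e0 => hd1 (orderOf_eq_one_iff.mp (by rw [hl, e0, pow_zero]))).trans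
      (hl ▸ Subgroup.orderOf_dvd_natCard _ hd)
  have hin : ∀ c ∈ P.comp a, c ≠ 1 → x * c * x⁻¹ ∉ P.comp a := fun c hc hc1 h =>
    hxN (P.mem_normalizer_of_conj D.ha hc hc1 h)
  have hout : ∀ c ∈ P.comp a, c ≠ 1 → ∀ k, c ^ 2 ^ k = 1 → x * c * x⁻¹ * g ∈ P.comp a := by
    intro c hc hc1 k hk
    obtain ⟨-, hcN⟩ := hconj c (hS c hc ⟨k, hk⟩) (Subgroup.le_normalizer hc)
    exact (D.norm_two h2 hcN (k := k) (by rw [conj_pow, hk, mul_one, mul_inv_cancel])).resolve_left (hin c hc hc1)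
  refine hin _ (mul_mem hd he) hde ?_
  rw [show x * (d * e) * x⁻¹ = x * d * x⁻¹ * (x * e * x⁻¹) by group]
  exact D.mul_coset (hout d hd hd1 i hi) (hout e he he1 j hj)

end Dih

end CfsgLib.Partition
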