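import Cfsg.Agent.Lib.Partition.Basic
import Cfsg.Agent.Lib.JComp.Iso

/-!
Partitions of groups with an elementary abelian normal subgroup outside every component: the symmetric group of
degree four.
-/

set_option autoImplicit false
set_option linter.unusedSectionVars false
set_option linter.style.haveILetI false

namespace CfsgLib.Partition

open Subgroup
open scoped Pointwise IsMulCommutative

universe u

variable {G : Type u} [Group G]

/-- An element acting without fixed points on a normal abelian subgroup has full orbit products trivial. -/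
theorem pow_mul_of_fpf (N : Subgroup G) [hN : N.Normal] (hab : ∀ u ∈ N, ∀ v ∈ N, Commute u v) {x : G} {r : ℕ}
    (hx : x ^ r = 1) (hfix : ∀ n ∈ N, Commute x n → n = 1) {b : G} (hb : b ∈ N) : (b * x) ^ r = 1 := by
  have hmem : (b * x) ^ r ∈ N := by
    have h := Part.coset_mem N (y := x) (by rw [Subgroup.normalizer_eq_top]; trivial) hb r
    rwa [hx, inv_one, mul_one] at h
  refine hfix _ hmem ?_
  have h1 : Commute (b⁻¹ * (b * x)) ((b * x) ^ r) :=
    (hab _ hb _ hmem).inv_left.mul_left (Commute.self_pow (b * x) r)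
  rwa [inv_mul_cancel_left] at h1

variable [Finite G]

/-- An elementary abelian normal subgroup outside every component. -/
structure Spread (P : Part G) (N : Subgroup G) (p : ℕ) : Prop where
  prime : p.Prime
  normal : N.Normal
  comm : ∀ u ∈ N, ∀ v ∈ N, Commute u v
  exp : ∀ u ∈ N, u ^ p = 1
  spread : ∀ a : G, a ≠ 1 → ¬ N ≤ P.comp a

namespace Spread

variable {P : Part G} {N : Subgroup G} {p : ℕ} (h : Spread P N p)

include h

theorem mem_normalizer {n m : G} (hn : n ∈ N) (hn1 : n ≠ 1) (hm : m ∈ N) :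
    m ∈ normalizer (P.comp n : Set G) :=
  P.mem_normalizer_of_commute hn1 (P.self_mem n hn1) hn1 (h.comm m hm n hn)

/-- A component meeting the subgroup has exponent `p` modulo it. -/
theorem pow_mem {n y : G} (hn : n ∈ N) (hn1 : n ≠ 1) (hy : y ∈ P.comp n) : y ^ p ∈ N := by
  haveI := h.normal
  obtain ⟨m, hm, hmK⟩ := SetLike.not_le_iff_exists.mp (h.spread n hn1)
  have h1 := P.coset_pow hn1 (h.mem_normalizer hn hn1 hm) hmK (n := p) (by rw [h.exp m hm]; exact one_mem _) hy
  have h2 : QuotientGroup.mk' N ((y * m) ^ p) = QuotientGroup.mk' N (y ^ p) := by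
    rw [map_pow, map_mul, show QuotientGroup.mk' N m = 1 from (QuotientGroup.eq_one_iff _).mpr hm, mul_one, map_pow]
  rw [h1, map_one] at h2
  exact (QuotientGroup.eq_one_iff _).mp h2.symm

/-- An element of another prime order fixes nothing. -/
theorem fpf {y : G} {r : ℕ} (hr : r.Prime) (hrp : r ≠ p) (hy : orderOf y = r) {n : G} (hn : n ∈ N)
    (hc : Commute y n) : n = 1 := by
  by_contra hn1
  have hon : orderOf n = p := by
    haveI := Fact.mk h.prime
    exact orderOf_eq_prime (h.exp n hn) hn1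
  have hmem : y ∈ P.comp n := P.mem_of_commute hn1 (P.self_mem n hn1) hn1 hc (by rw [hy, hon]; exact hrp)
  have h1 := h.exp _ (h.pow_mem hn hn1 hmem)
  rw [← pow_mul] at h1
  have h2 := orderOf_dvd_of_pow_eq_one h1
  rw [hy] at h2
  rcases hr.dvd_mul.mp h2 with h3 | h3 <;> exact hrp ((Nat.prime_dvd_prime_iff_eq hr h.prime).mp h3)

theorem isPGroup : IsPGroup p N := fun x => ⟨1, Subtype.ext (by rw [pow_one]; exact h.exp x x.2)⟩

/-- The norm of an element of order `p` is trivial on one class or the prime is two. -/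
theorem norm_data {g : G} (hg : g ^ p = 1) :
    (∀ n1 ∈ N, ∀ n2 ∈ N, (n1 * g) ^ p ≠ 1 → (n2 * g) ^ p ≠ 1 → (n1 * n2⁻¹ * g) ^ p = 1) ∧
      ((∃ n ∈ N, (n * g) ^ p ≠ 1) → p = 2) := by
  classical
  haveI := h.normal
  haveI := Fact.mk h.prime
  haveI : IsMulCommutative N := ⟨⟨fun x y => Subtype.ext (h.comm x x.2 y y.2).eq⟩⟩
  have hgN : g ∈ normalizer (N : Set G) := by rw [Subgroup.normalizer_eq_top]; trivial
  set f : N → N := fun z => ∏ i ∈ Finset.range p, Subgroup.normalizerMonoidHom N (⟨g, hgN⟩ ^ i) z with hf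
  have hfz : ∀ z : N, ((z : G) * g) ^ p = f z := fun z => by
    rw [CfsgLib.Frob.mul_pow_eq_prod N hgN z p, hg, mul_one]
  have hfm : ∀ z w : N, f (z * w) = f z * f w := fun z w => by
    simp only [hf, map_mul, Finset.prod_mul_distrib]
  have hf1 : f 1 = 1 := by simp [hf]
  have hfi : ∀ z : N, f z⁻¹ = (f z)⁻¹ := fun z => eq_inv_of_mul_eq_one_left (by rw [← hfm, inv_mul_cancel, hf1])
  have hD : ∀ z : N, ((z : G) * g) ^ p ≠ 1 ↔ f z ≠ 1 := fun z => by
    rw [hfz]; exact not_congr OneMemClass.coe_eq_one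
  -- a Sylow subgroup with a central element in the subgroup
  have hgp : IsPGroup p (zpowers g) := fun x => by
    obtain ⟨i, hi⟩ := mem_zpowers_iff.mp x.2
    refine ⟨1, Subtype.ext ?_⟩
    rw [Subgroup.coe_pow, ← hi, pow_one, ← zpow_natCast, ← zpow_mul, mul_comm, zpow_mul, zpow_natCast, hg, one_zpow]
    rfl
  obtain ⟨R, hR⟩ := (hgp.to_sup_of_normal_right h.isPGroup).exists_le_sylow
  have hNR : N ≤ R := le_sup_right.trans hR
  have hgR : g ∈ (R : Subgroup G) := hR (Subgroup.mem_sup_left (mem_zpowers g))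
  by_cases hN : N = ⊥
  · refine ⟨fun n1 hn1 n2 hn2 h1 => absurd ?_ h1, fun ⟨n, hn, h1⟩ => absurd ?_ h1⟩
    · rw [hN, Subgroup.mem_bot] at hn1; rw [hn1, one_mul, hg]
    · rw [hN, Subgroup.mem_bot] at hn; rw [hn, one_mul, hg]
  haveI : Group.IsNilpotent (R : Subgroup G) := R.isPGroup'.isNilpotent
  have hne := CfsgLib.inf_center_ne_bot_of_nilpotent (G := (R : Subgroup G)) (N := N.subgroupOf R)
    (fun e => hN (le_bot_iff.mp (fun x hx => by
      have := Subgroup.disjoint_def.mp (Subgroup.subgroupOf_eq_bot.mp e) hx (hNR hx)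
      exact Subgroup.mem_bot.mpr this)))
  obtain ⟨z, hz, hz1⟩ := (Subgroup.bot_or_exists_ne_one _).resolve_left hne
  obtain ⟨hzN, hzc⟩ := Subgroup.mem_inf.mp hz
  have hzG : (z : G) ≠ 1 := fun e => hz1 (Subtype.ext e)
  have hL : ∀ w ∈ (R : Subgroup G), w ^ p ≠ 1 → w ∈ P.comp (z : G) := fun w hw hwp =>
    P.mem_of_commute hzG (P.self_mem _ hzG) hzG
      (congrArg Subtype.val (Subgroup.mem_center_iff.mp hzc ⟨w, hw⟩)) fun e => hwp (by
        rw [orderOf_eq_prime (h.exp _ (Subgroup.mem_subgroupOf.mp hzN)) hzG] at e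
        rw [← e, pow_orderOf_eq_one])
  set L := P.comp (z : G)
  have hDL : ∀ w : N, f w ≠ 1 → (w : G) * g ∈ L := fun w hw =>
    hL _ (mul_mem (hNR w.2) hgR) ((hD w).mpr hw)
  have hdiff : ∀ w1 w2 : N, f w1 ≠ 1 → f w2 ≠ 1 → (w1 : G) * (w2 : G)⁻¹ ∈ L := fun w1 w2 h1 h2 => by
    have := mul_mem (hDL w1 h1) (inv_mem (hDL w2 h2))
    rwa [show (w1 : G) * g * ((w2 : G) * g)⁻¹ = w1 * (w2 : G)⁻¹ by group] at this
  have hnot : ∀ w : N, f w ≠ 1 → (w : G) ∉ L := fun w hw hwL => by
    refine h.spread (z : G) hzG fun x hx => ?_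
    have hgL : g ∈ L := by
      have := mul_mem (inv_mem hwL) (hDL w hw)
      rwa [inv_mul_cancel_left] at this
    have hone : ∀ v : N, f v ≠ 1 → (v : G) ∈ L := fun v hv => by
      have := mul_mem (hDL v hv) (inv_mem hgL)
      rwa [mul_inv_cancel_right] at this
    by_cases hx1 : f ⟨x, hx⟩ = 1
    · have h2 : f (⟨x, hx⟩ * w) ≠ 1 := by rwa [hfm, hx1, one_mul]
      have := mul_mem (hone _ h2) (inv_mem hwL)
      simpa using this
    · exact hone _ hx1
  have hker : ∀ w1 w2 : N, f w1 ≠ 1 → f w2 ≠ 1 → f (w1 * w2⁻¹) = 1 := fun w1 w2 h1 h2 =>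
    by_contra fun h3 => hnot _ h3 (by simpa using hdiff w1 w2 h1 h2)
  refine ⟨fun n1 hn1 n2 hn2 h1 h2 => ?_, fun ⟨n, hn, h1⟩ => ?_⟩
  · by_contra h3
    exact (hD (⟨n1, hn1⟩ * ⟨n2, hn2⟩⁻¹)).mp h3 (hker _ _ ((hD ⟨n1, hn1⟩).mp h1) ((hD ⟨n2, hn2⟩).mp h2))
  · have hw := (hD ⟨n, hn⟩).mp h1
    set w : N := ⟨n, hn⟩
    have h2 : f (w * w) = 1 := by
      by_contra h4
      have := hker _ _ h4 hw
      rw [mul_inv_cancel_right] at this
      exact hw this
    have h5 : orderOf (f w) = 2 := orderOf_eq_prime (by rw [pow_two, ← hfm, h2]) hw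
    have h6 : orderOf (f w) = p := orderOf_eq_prime (Subtype.ext (h.exp _ (f w).2)) hw
    omega

omit h in
/-- The elements commuting with an involution, in the form used below. -/
theorem sq_eq_one_iff (h : Spread P N 2) {g n : G} (hg : g * g = 1) (hn : n ∈ N) :
    (n * g) ^ 2 = 1 ↔ Commute n g := by
  have hn2 : n⁻¹ = n := inv_eq_of_mul_eq_one_right (by rw [← pow_two]; exact h.exp n hn)
  have hg2 : g⁻¹ = g := inv_eq_of_mul_eq_one_right hg
  rw [pow_two, mul_eq_one_iff_eq_inv, _root_.mul_inv_rev, hn2, hg2]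
  exact Iff.rfl

omit h in
/-- Two involutions with product fixed-point-free bound the subgroup by four. -/
theorem card_le_four (h : Spread P N 2) {g y : G} (hg : g * g = 1) (hyg : y * g * (y * g) = 1)
    (hy : ∀ n ∈ N, Commute y n → n = 1) : Nat.card N ≤ 4 := by
  classical
  have key : ∀ {u : G}, u * u = 1 → ∀ n1 ∈ N, ∀ n2 ∈ N, (Commute n1 u ↔ Commute n2 u) → Commute (n1 * n2) u := by
    intro u hu n1 hn1 n2 hn2 hiff
    by_cases h1 : Commute n1 u
    · exact h1.mul_left (hiff.mp h1)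
    · have h3 := (h.norm_data (g := u) (by rw [pow_two, hu])).1 n1 hn1 n2 hn2
        (fun e => h1 ((sq_eq_one_iff h hu hn1).mp e))
        (fun e => h1 (hiff.mpr ((sq_eq_one_iff h hu hn2).mp e)))
      have h4 := (sq_eq_one_iff h hu (mul_mem hn1 (inv_mem hn2))).mp h3
      rwa [show n2⁻¹ = n2 from inv_eq_of_mul_eq_one_right (by rw [← pow_two]; exact h.exp n2 hn2)] at h4
  let φ : N → Bool × Bool := fun n => (decide (Commute (n : G) g), decide (Commute (n : G) (y * g)))
  have hinj : Function.Injective φ := fun n1 n2 e => by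
    obtain ⟨e1, e2⟩ := Prod.ext_iff.mp e
    have c1 := key hg n1 n1.2 n2 n2.2 (decide_eq_decide.mp e1)
    have c2 := key hyg n1 n1.2 n2 n2.2 (decide_eq_decide.mp e2)
    have c3 : Commute y ((n1 : G) * n2) := by
      have := (c2.mul_right c1.inv_right).symm
      rwa [mul_inv_cancel_right] at this
    have h4 := hy _ (mul_mem n1.2 n2.2) c3
    refine Subtype.ext ?_
    rw [mul_eq_one_iff_eq_inv] at h4
    rw [h4]
    exact inv_eq_of_mul_eq_one_right (by rw [← pow_two]; exact h.exp _ n2.2)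
  exact (Nat.card_le_card_of_injective φ hinj).trans (le_of_eq (by simp))

end Spread

/-- The symmetric group of degree four. -/
theorem perm_four_of_spread (P : Part G) (N : Subgroup G) {p : ℕ} (h : Spread P N p)
    (hF : ∀ C : Subgroup G, ¬ Cfsg.IsFrobeniusComplement C)
    (hH : ∀ q : ℕ, q.Prime → Subgroup.closure {g : G | g ^ q ≠ 1} = ⊤) [Nontrivial G] :
    Nonempty (G ≃* Equiv.Perm (Fin 4)) := by
  classical
  haveI := h.normal
  haveI := Fact.mk h.prime
  -- an element of another prime order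
  obtain ⟨y, r, hr, hrp, hy⟩ : ∃ (y : G) (r : ℕ), r.Prime ∧ r ≠ p ∧ orderOf y = r := by
    by_contra hh
    push Not at hh
    refine P.hughes_of_pgroup (p := p) ?_ inferInstance (hH p h.prime)
    refine IsPGroup.of_card (Nat.eq_prime_pow_of_unique_prime_dvd Nat.card_pos.ne' fun {d} hd hdd => ?_)
    by_contra hne
    haveI := Fact.mk hd
    obtain ⟨z, hz⟩ := exists_prime_orderOf_dvd_card' d hdd
    exact hh z d hd hne hz
  haveI := Fact.mk hr
  have hy1 : y ≠ 1 := fun e => hr.ne_one (by rw [← hy, e, orderOf_one])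
  set K := P.comp y with hKdef
  have hyK : y ∈ K := P.self_mem y hy1
  have hyfix : ∀ n ∈ N, Commute y n → n = 1 := fun n hn hc => h.fpf hr hrp hy hn hc
  have hKN : ∀ n ∈ N, n ∈ K → n = 1 := fun n hn hnK => by
    by_contra hn1
    have hyn : y ∈ P.comp n := by rw [P.comp_eq y n hy1 hn1 hnK]; exact hyK
    have h1 := h.exp _ (h.pow_mem hn hn1 hyn)
    rw [← pow_mul] at h1
    have h2 := orderOf_dvd_of_pow_eq_one h1
    rw [hy] at h2
    rcases hr.dvd_mul.mp h2 with h3 | h3 <;> exact hrp ((Nat.prime_dvd_prime_iff_eq hr h.prime).mp h3)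
  have hNK : ∀ n ∈ N, n ∈ normalizer (K : Set G) → n = 1 := fun n hn hnK => by
    refine hyfix n hn ?_
    have h1 : y * n * y⁻¹ * n⁻¹ ∈ N := mul_mem (h.normal.conj_mem n hn y) (inv_mem hn)
    have h2 : y * n * y⁻¹ * n⁻¹ ∈ K := by
      rw [mul_assoc, mul_assoc, ← mul_assoc n]
      exact mul_mem hyK ((Subgroup.mem_normalizer_iff.mp hnK _).mp (inv_mem hyK))
    exact mul_inv_eq_iff_eq_mul.mp (mul_inv_eq_one.mp (hKN _ h1 h2))
  have hKfix : ∀ k ∈ K, k ≠ 1 → ∀ n ∈ N, Commute k n → n = 1 := fun k hk hk1 n hn hc =>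
    hNK n hn (P.mem_normalizer_of_commute hy1 hk hk1 hc.symm)
  have hN0 : N ≠ ⊥ := fun e => h.spread y hy1 (e ▸ bot_le)
  have hKcop : (Nat.card K).Coprime (Nat.card N) := by
    refine Nat.coprime_of_dvd fun q hq hqK hqN => ?_
    obtain ⟨i, hi⟩ := IsPGroup.iff_card.mp h.isPGroup
    rw [hi] at hqN
    obtain rfl := (Nat.prime_dvd_prime_iff_eq hq h.prime).mp (hq.dvd_of_dvd_pow hqN)
    obtain ⟨k, hk⟩ := exists_prime_orderOf_dvd_card' (G := K) q hqK
    rw [← Subgroup.orderOf_coe] at hk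
    have hk1 : (k : G) ≠ 1 := fun e => hq.ne_one (by rw [← hk, e, orderOf_one])
    letI : MulAction (zpowers (k : G)) N :=
      MulAction.compHom N ((MulAut.conjNormal (H := N)).comp (zpowers (k : G)).subtype)
    have hkg : IsPGroup q (zpowers (k : G)) := IsPGroup.of_card (n := 1) (by rw [Nat.card_zpowers, hk, pow_one])
    have hcard : q ∣ Nat.card N := by
      rw [hi]
      exact dvd_pow_self _ fun e => hN0 (Subgroup.card_eq_one.mp (by rw [hi, e, pow_zero]))
    have h1mem : (1 : N) ∈ MulAction.fixedPoints (zpowers (k : G)) N := fun w =>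
      map_one (MulAut.conjNormal (H := N) (w : G))
    obtain ⟨v, hv, hv1⟩ := hkg.exists_fixed_point_of_prime_dvd_card_of_fixed_point (α := N) hcard h1mem
    have hc := congrArg Subtype.val (hv ⟨(k : G), mem_zpowers (k : G)⟩)
    have hc' : (k : G) * v * (k : G)⁻¹ = v := by rw [← MulAut.conjNormal_apply]; exact hc
    exact hv1 (Subtype.ext (hKfix k k.2 hk1 v v.2 (mul_inv_eq_iff_eq_mul.mp hc')).symm)
  -- an element of order `p` normalising the component
  obtain ⟨g0, hg0, hg0K⟩ : ∃ g0 ∈ normalizer (K : Set G), g0 ∉ K := by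
    by_contra hh
    push Not at hh
    exact hF _ (P.frobenius_of_self_normalizing hy1 hh)
  have hg01 : g0 ≠ 1 := fun e => hg0K (e ▸ one_mem _)
  obtain ⟨s, hs, hsd⟩ := Nat.exists_prime_and_dvd (mt orderOf_eq_one_iff.mp hg01)
  haveI := Fact.mk hs
  set w := g0 ^ (orderOf g0 / s) with hwdef
  have hwo : orderOf w = s := orderOf_pow_orderOf_div (orderOf_pos g0).ne' hsd
  have hwN : w ∈ normalizer (K : Set G) := pow_mem hg0 _
  have hwK : w ∉ K := fun hm => hs.ne_one (by rw [← hwo, show w = 1 from P.pow_out hy1 hg0K hm, orderOf_one])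
  have hcoset : ∀ k ∈ K, (k * w) ^ s = 1 := fun k hk =>
    P.coset_pow hy1 hwN hwK (by rw [← hwo, pow_orderOf_eq_one]; exact one_mem _) hk
  have hkw : ∀ k ∈ K, k * w ∉ K := fun k hk hm => hwK (by
    have := mul_mem (inv_mem hk) hm
    rwa [inv_mul_cancel_left] at this)
  have hnotall : ¬ ∀ k ∈ K, ∀ n ∈ N, (n * (k * w)) ^ s = 1 := fun hall => by
    haveI : IsMulCommutative N := ⟨⟨fun x y => Subtype.ext (h.comm x x.2 y y.2).eq⟩⟩
    refine hN0 (CfsgLib.Frob.eq_one_of_norm hs (Z := N) (S := K) (x := w)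
      (by rw [Subgroup.normalizer_eq_top]; exact le_top) (by rw [Subgroup.normalizer_eq_top]; trivial)
      hwN hall hKcop ((Subgroup.eq_bot_iff_forall _).mpr fun n hn => ?_))
    exact hyfix n hn.1 (Subgroup.mem_centralizer_iff.mp hn.2 y hyK)
  obtain rfl : s = p := by
    by_contra hsp
    refine hnotall fun k hk n hn => ?_
    refine pow_mul_of_fpf N h.comm (hcoset k hk) (fun m hm hc => ?_) hn
    exact h.fpf hs hsp (orderOf_eq_prime (hcoset k hk) (fun e => hkw k hk (e ▸ one_mem _))) hm hc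
  push Not at hnotall
  obtain ⟨k0, hk0, n0, hn0, hne⟩ := hnotall
  obtain rfl : s = 2 := (h.norm_data (hcoset k0 hk0)).2 ⟨n0, hn0, hne⟩
  set g := k0 * w with hgdef
  have hgK : g ∉ K := hkw k0 hk0
  have hgN : g ∈ normalizer (K : Set G) := mul_mem (Subgroup.le_normalizer hk0) hwN
  have hgg : g * g = 1 := by rw [← pow_two]; exact hcoset k0 hk0
  have hgo : orderOf g = 2 := orderOf_eq_prime (hcoset k0 hk0) fun e => hgK (e ▸ one_mem _)
  have hyg : y * g * (y * g) = 1 := by
    rw [← pow_two]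
    exact P.coset_pow hy1 hgN hgK (by rw [pow_two, hgg]; exact one_mem _) hyK
  -- the subgroup has order four
  have h4 : Nat.card N = 4 := by
    have hle := Spread.card_le_four h hgg hyg hyfix
    obtain ⟨i, hi⟩ := IsPGroup.iff_card.mp h.isPGroup
    have h3 : 2 < Nat.card N := by
      by_contra hlt
      push Not at hlt
      obtain ⟨n, hn, hn1⟩ := N.bot_or_exists_ne_one.resolve_left hN0
      refine h.spread n hn1 fun x hx => ?_
      by_contra hxn
      have hx1 : x ≠ 1 := fun e => hxn (e ▸ one_mem _)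
      have hsub : ({⟨1, one_mem N⟩, ⟨n, hn⟩, ⟨x, hx⟩} : Finset N).card = 3 := by
        rw [Finset.card_eq_three]
        exact ⟨_, _, _, fun e => hn1 (congrArg Subtype.val e).symm, fun e => hx1 (congrArg Subtype.val e).symm,
          fun e => hxn (by
            have h' : n = x := congrArg Subtype.val e
            rw [← h']
            exact P.self_mem n hn1), rfl⟩
      haveI := Fintype.ofFinite N
      have := Finset.card_le_univ ({⟨1, one_mem N⟩, ⟨n, hn⟩, ⟨x, hx⟩} : Finset N)
      rw [hsub, ← Nat.card_eq_fintype_card] at this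
      omega
    rcases i with _ | _ | _ | i
    · rw [hi] at h3; norm_num at h3
    · rw [hi] at h3; norm_num at h3
    · rw [hi]; rfl
    · rw [hi, pow_succ, pow_succ, pow_succ] at hle
      have := Nat.pow_pos (n := i) two_pos
      omega
  -- the centraliser of the subgroup
  set C := centralizer (N : Set G) with hC
  have hNC : N ≤ C := fun n hn => Subgroup.mem_centralizer_iff.mpr fun m hm => (h.comm m hm n hn).eq
  obtain ⟨n1, hn1, hn11⟩ := N.bot_or_exists_ne_one.resolve_left hN0
  have hC2 : ∀ c ∈ C, c ^ 2 = 1 := by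
    intro c hc
    by_contra hc2
    have hc1 : c ≠ 1 := fun e => hc2 (by rw [e, one_pow])
    refine h.spread c hc1 fun n hn => ?_
    by_cases hn' : n = 1
    · rw [hn']; exact one_mem _
    by_contra hnc
    have he := (P.orderOf_of_commute hc1 (P.self_mem c hc1) hc1 hnc (Subgroup.mem_centralizer_iff.mp hc n hn)).1
    rw [orderOf_eq_prime (h.exp n hn) hn'] at he
    exact hc2 (by rw [he, pow_orderOf_eq_one])
  have hSC : Spread P C 2 := by
    refine ⟨Nat.prime_two, inferInstance, fun u hu v hv => ?_, hC2, fun a ha hle => h.spread a ha (hNC.trans hle)⟩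
    have e : ∀ x ∈ C, x⁻¹ = x := fun x hx => inv_eq_of_mul_eq_one_right (by rw [← pow_two]; exact hC2 x hx)
    show u * v = v * u
    calc u * v = (u * v)⁻¹ := (e _ (mul_mem hu hv)).symm
      _ = v * u := by rw [_root_.mul_inv_rev, e u hu, e v hv]
  have hCN : C = N := (Subgroup.eq_of_le_of_card_ge hNC (by
    rw [h4]
    exact Spread.card_le_four hSC hgg hyg fun n hn hc => hSC.fpf hr hrp hy hn hc)).symm
  -- the order
  let f : G →* Equiv.Perm {x : N // x ≠ 1} :=
    { toFun := fun a => ((MulAut.conjNormal (H := N) a).toEquiv).subtypeEquiv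
        (fun x => by simp)
      map_one' := Equiv.ext fun x => Subtype.ext (by simp)
      map_mul' := fun a b => Equiv.ext fun x => Subtype.ext (by simp) }
  have hker : f.ker = N := by
    refine le_antisymm (fun a ha => ?_) fun a ha => ?_
    · rw [← hCN]
      refine Subgroup.mem_centralizer_iff.mpr fun n hn => ?_
      by_cases hn' : n = 1
      · rw [hn', one_mul, mul_one]
      have h1 := congrArg Subtype.val (congrArg Subtype.val (Equiv.congr_fun (MonoidHom.mem_ker.mp ha)
        ⟨⟨n, hn⟩, fun e => hn' (congrArg Subtype.val e)⟩))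
      have h2 : a * n * a⁻¹ = n := by simpa [f] using h1
      exact (mul_inv_eq_iff_eq_mul.mp h2).symm
    · refine MonoidHom.mem_ker.mpr (Equiv.ext fun x => Subtype.ext (Subtype.ext ?_))
      have := h.comm a ha _ x.1.2
      simpa [f] using mul_inv_eq_iff_eq_mul.mpr this.eq
  have hidx6 : N.index ∣ 6 := by
    have h1 := Subgroup.card_subgroup_dvd_card f.range
    rw [← Subgroup.index_ker, hker] at h1
    haveI := Fintype.ofFinite N
    rw [Nat.card_perm, Nat.card_eq_fintype_card, Fintype.card_subtype_compl, Fintype.card_subtype_eq,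
      ← Nat.card_eq_fintype_card, h4] at h1
    exact h1
  have hord : ∀ {x : G} {q : ℕ}, q.Prime → orderOf x = q → x ∉ N → q ∣ N.index := fun {x q} hq hx hxN => by
    haveI := Fact.mk hq
    rw [Subgroup.index_eq_card,
      ← orderOf_eq_prime (x := QuotientGroup.mk' N x) (p := q) (by rw [← map_pow, ← hx, pow_orderOf_eq_one, map_one])
        (fun e => hxN ((QuotientGroup.eq_one_iff _).mp e))]
    exact orderOf_dvd_natCard _
  have hgnN : g ∉ N := fun hm => hgK (by rw [hNK g hm hgN]; exact one_mem _)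
  have h2d := hord Nat.prime_two hgo hgnN
  have hrd := hord hr hy fun hm => hy1 (hKN y hm hyK)
  obtain rfl : r = 3 := by
    have hr6 := hrd.trans hidx6
    have : r ≤ 6 := Nat.le_of_dvd (by norm_num) hr6
    interval_cases r <;> first | rfl | omega | norm_num at hr
  have h6 : N.index = 6 := Nat.dvd_antisymm hidx6 (Nat.Coprime.mul_dvd_of_dvd_of_dvd (by norm_num) h2d hrd)
  have hG : Nat.card G = 24 := by rw [← N.card_mul_index, h4, h6]
  set D := normalizer (K : Set G) with hD
  have hD6 : Nat.card D = 6 := by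
    have h2' : (2 : ℕ) ∣ Nat.card D := by
      have := orderOf_dvd_natCard (⟨g, hgN⟩ : D)
      rwa [Subgroup.orderOf_mk, hgo] at this
    have h3' : 3 ∣ Nat.card D := by
      have := orderOf_dvd_natCard (⟨y, Subgroup.le_normalizer hyK⟩ : D)
      rwa [Subgroup.orderOf_mk, hy] at this
    have hle : Nat.card (N × D) ≤ Nat.card G := Nat.card_le_card_of_injective (fun z => (z.1 : G) * z.2)
      fun z1 z2 e => by
        have h3 : ((z2.1 : G)⁻¹ * z1.1) = z2.2 * (z1.2 : G)⁻¹ := by
          have e' : (z1.1 : G) * z1.2 = z2.1 * z2.2 := e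
          calc _ = (z2.1 : G)⁻¹ * (z1.1 * z1.2) * (z1.2 : G)⁻¹ := by group
            _ = _ := by rw [e']; group
        have h4' := hNK _ (mul_mem (inv_mem z2.1.2) z1.1.2) (h3 ▸ mul_mem z2.2.2 (inv_mem z1.2.2))
        rw [h4'] at h3
        exact Prod.ext (Subtype.ext (inv_mul_eq_one.mp h4').symm) (Subtype.ext (mul_inv_eq_one.mp h3.symm).symm)
    rw [Nat.card_prod, h4, hG] at hle
    have h6' : 6 ∣ Nat.card D := Nat.Coprime.mul_dvd_of_dvd_of_dvd (by norm_num) h2' h3'
    have := Nat.card_pos (α := D)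
    omega
  obtain ⟨e⟩ := CfsgLib.JComp.iso_perm_four (H := (⊤ : Subgroup G)) (D := D) le_top
    (by rw [Subgroup.card_top, hG]) hD6 fun k hk hconj => by
    have hkC : k ∈ C := Subgroup.mem_centralizer_iff.mpr fun n hn => by
      have h1 : k * n * k⁻¹ * n⁻¹ ∈ N := mul_mem (h.normal.conj_mem n hn k) (inv_mem hn)
      have h2 : k * n * k⁻¹ * n⁻¹ ∈ D := by
        rw [mul_assoc, mul_assoc, ← mul_assoc n]
        refine mul_mem hk ?_
        have := inv_mem (hconj n (Subgroup.mem_top _))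
        simpa [mul_assoc] using this
      exact (mul_inv_eq_iff_eq_mul.mp (mul_inv_eq_one.mp (hNK _ h1 h2))).symm
    exact hNK k (hCN ▸ hkC) hk
  exact ⟨Subgroup.topEquiv.symm.trans e⟩

end CfsgLib.Partition
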