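import Cfsg.Agent.Lib.Partition.Parts
import Cfsg.Agent.Lib.EvenCyclicNorm.Field

/-!
A group with a partition over a two-dimensional projective special linear group has no field automorphisms.
-/

set_option autoImplicit false
set_option linter.unusedSectionVars false
set_option linter.style.haveILetI false

namespace CfsgLib.Partition

open Subgroup Matrix
open CfsgLib.PSL2 (mk uu vv diagAut fieldAut dil dSL fieldPart)
open CfsgLib.EvenCyclicNorm (autHom fieldHom wE wSL dHom)
open CfsgLib.Involutions (mul_self_eq_one_of_orderOf inv_eq_self_of_orderOf)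
open scoped MatrixGroups

universe u

theorem commute_in {G : Type u} [Group G] [Finite G] {H : Subgroup G} (hn : Group.IsNilpotent H) {x y : G}
    (hx : x ∈ H) (hy : y ∈ H) (h : (orderOf x).Coprime (orderOf y)) : Commute x y := by
  haveI := hn
  exact congrArg Subtype.val (CfsgLib.Frob.commute_of_nilpotent_coprime (a := (⟨x, hx⟩ : H)) (b := ⟨y, hy⟩)
    (by rwa [Subgroup.orderOf_mk, Subgroup.orderOf_mk])).eq

/-- Two elements of two-power order in a nilpotent subgroup with product of order dividing three. -/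
theorem eq_one_of_two_three {G : Type u} [Group G] [Finite G] {H : Subgroup G} (hn : Group.IsNilpotent H) {x y : G}
    (hx : x ∈ H) (hy : y ∈ H) {i j : ℕ} (hi : x ^ 2 ^ i = 1) (hj : y ^ 2 ^ j = 1) (h3 : (x * y) ^ 3 = 1) :
    x * y = 1 := by
  haveI : Fact (Nat.Prime 2) := ⟨Nat.prime_two⟩
  obtain ⟨k, hk⟩ := mul_primary hn hx hy hi hj
  rw [← orderOf_eq_one_iff]
  exact Nat.eq_one_of_dvd_coprimes (Nat.Coprime.pow_right k (by norm_num : Nat.Coprime 3 2))
    (orderOf_dvd_of_pow_eq_one h3) (orderOf_dvd_of_pow_eq_one hk)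

/-- In a nilpotent subgroup an element inverted by an involution of it has two-power order. -/
theorem two_power_of_inverted {G : Type u} [Group G] [Finite G] {H : Subgroup G} (hn : Group.IsNilpotent H) {x y : G}
    (hy : orderOf y = 2) (hx : x ∈ H) (hyH : y ∈ H) (hinv : y * x * y⁻¹ = x⁻¹) : ∃ k, x ^ 2 ^ k = 1 := by
  obtain ⟨k, o, ho, he⟩ := Nat.exists_eq_two_pow_mul_odd (orderOf_pos x).ne'
  refine ⟨k, ?_⟩
  set z := x ^ 2 ^ k with hz
  have hzo : orderOf z = o := by
    rw [hz, orderOf_pow' _ (Nat.pow_pos two_pos).ne', he, Nat.gcd_eq_right (dvd_mul_right _ _),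
      Nat.mul_div_cancel_left _ (Nat.pow_pos two_pos)]
  have hc := commute_in hn hyH (pow_mem hx (2 ^ k))
    (by rw [hy, ← hz, hzo]; exact Nat.coprime_two_left.mpr ho)
  have h1 : y * z * y⁻¹ = z⁻¹ := by rw [hz, ← conj_pow, hinv, inv_pow]
  rw [hc.eq, mul_inv_cancel_right, eq_inv_iff_mul_eq_one, ← pow_two] at h1
  rw [← orderOf_eq_one_iff, hzo]
  exact Nat.eq_one_of_dvd_coprimes (Nat.coprime_two_right.mpr ho) dvd_rfl (hzo ▸ orderOf_dvd_of_pow_eq_one h1)

variable {F : Type} [Field F] [Fintype F]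

local notation "SL" => Matrix.SpecialLinearGroup (Fin 2) F
local notation "PSL" => Matrix.ProjectiveSpecialLinearGroup (Fin 2) F

theorem uu_order (p : ℕ) [Fact p.Prime] [CharP F p] : orderOf (uu 1 : PSL) = p := by
  refine orderOf_eq_prime ?_ fun e1 => ?_
  · rw [EvenCyclicNorm.uu_pow, CharP.cast_eq_zero, zero_mul]; exact map_one _
  · exact one_ne_zero (PSL2.uu_injective (e1.trans (map_one PSL2.uHom).symm : uu 1 = (uu 0 : PSL)))

theorem vv_order (p : ℕ) [Fact p.Prime] [CharP F p] : orderOf (vv 1 : PSL) = p := by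
  refine orderOf_eq_prime ?_ fun e1 => ?_
  · show PSL2.vHom (Multiplicative.ofAdd (1 : F)) ^ p = 1
    rw [← map_pow, ← ofAdd_nsmul, nsmul_one, CharP.cast_eq_zero, ofAdd_zero, map_one]
  · exact one_ne_zero (PSL2.vv_injective (e1.trans (map_one PSL2.vHom).symm : vv 1 = (vv 0 : PSL)))

/-- An element of order three. -/
def tSL : SL := ⟨!![0, 1; -1, -1], by simp [Matrix.det_fin_two_of]⟩

theorem coe_tSL : (tSL (F := F)).1 = !![0, 1; -1, -1] := rfl

theorem tSL_fix (e : F ≃+* F) : fieldAut e (PSL2.mk (tSL (F := F))) = PSL2.mk tSL := by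
  rw [PSL2.fieldAut_apply]
  congr 1
  apply Subtype.ext
  rw [SpecialLinearGroup.map_apply_coe]
  ext i j
  fin_cases i <;> fin_cases j <;> simp [coe_tSL]

theorem tSL_order : orderOf (mk (tSL (F := F))) = 3 := by
  haveI : Fact (Nat.Prime 3) := ⟨Nat.prime_three⟩
  refine orderOf_eq_prime ?_ ?_
  · rw [← map_pow, ← map_one (mk : SL →* PSL)]
    congr 1
    apply Matrix.SpecialLinearGroup.ext
    intro i j
    fin_cases i <;> fin_cases j <;>
      simp [pow_succ, SpecialLinearGroup.coe_mul, coe_tSL, Matrix.mul_apply, Fin.sum_univ_two]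
  · intro e1
    rw [← map_one (mk : SL →* PSL), PSL2.mk_eq_mk] at e1
    rcases e1 with e2 | e2 <;> simpa [coe_tSL] using congrFun (congrFun e2 0) 1

variable {G : Type u} [Group G] [Finite G] (P : Part G) (hnil : ∀ a : G, a ≠ 1 → Group.IsNilpotent (P.comp a))
  (ι : Matrix.ProjectiveSpecialLinearGroup (Fin 2) F →* G) (hι : Function.Injective ι)
  [hN : ι.range.Normal] (hC : centralizer (ι.range : Set G) = ⊥)

include hnil hι hC

theorem order_of_pure {g : G} {e : RingAut F} (hg : autHom ι hι g = fieldHom e) : orderOf g = orderOf e := by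
  rw [← orderOf_injective _ (EvenCyclicNorm.autHom_injective ι hι hC) g, hg,
    orderOf_injective _ EvenCyclicNorm.fieldHom_injective]

theorem commute_of_field {g : G} {e : RingAut F} (hg : autHom ι hι g = fieldHom e) {x : PSL}
    (hx : fieldAut e x = x) : Commute g (ι x) :=
  EvenCyclicNorm.commute_of_fix ι hι (by rw [hg]; exact hx)

/-- No pure field automorphism of prime order in even characteristic. -/
theorem pure_even [CharP F 2] (h4 : 4 < Fintype.card F) {g : G} {e : RingAut F} (hr : (orderOf e).Prime)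
    (hg : autHom ι hι g = fieldHom e) : False := by
  classical
  haveI : Fact (Nat.Prime 2) := ⟨Nat.prime_two⟩
  have hgo := order_of_pure P hnil ι hι hC hg
  have hg1 : g ≠ 1 := fun e1 => hr.ne_one (by rw [← hgo, e1, orderOf_one])
  set L := P.comp g with hL
  have hgL := P.self_mem g hg1
  have hfix := fun (x : PSL) hx => (commute_of_field P hnil ι hι hC hg (x := x) hx).symm
  rcases hr.eq_two_or_odd' with h2 | hodd
  swap
  · have hmem : ∀ x : PSL, fieldAut e x = x → orderOf x = 2 → ι x ∈ L := fun x hx ho =>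
      P.mem_of_commute hg1 hgL hg1 (hfix x hx) (by
        rw [orderOf_injective _ hι, ho, hgo]
        intro e2
        rw [← e2] at hodd
        exact Nat.not_odd_iff_even.mpr even_two hodd)
    have hu := hmem (uu 1) (by rw [PSL2.fieldAut_uu, map_one]) (uu_order 2)
    have hv := hmem (vv 1) (by rw [PSL2.fieldAut_vv, map_one]) (vv_order 2)
    have h3 : (uu 1 * vv 1 : PSL) ^ 3 = 1 := by
      rw [PSL2.uu_eq, PSL2.vv_eq, ← map_mul, ← map_pow, ← map_one (mk : SL →* PSL)]
      congr 1
      apply Matrix.SpecialLinearGroup.ext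
      intro i j
      fin_cases i <;> fin_cases j <;>
        simp [pow_succ, SpecialLinearGroup.coe_mul, PSL2.coe_uSL, PSL2.coe_vSL, Matrix.mul_apply, Fin.sum_univ_two,
          CharTwo.add_self_eq_zero]
    have h1 := eq_one_of_two_three (hnil g hg1) hu hv (i := 1) (j := 1)
      (by rw [pow_one, ← map_pow, show (uu 1 : PSL) ^ 2 = 1 by rw [pow_two, mul_self_eq_one_of_orderOf (uu_order (F := F) 2)], map_one])
      (by rw [pow_one, ← map_pow, show (vv 1 : PSL) ^ 2 = 1 by rw [pow_two, mul_self_eq_one_of_orderOf (vv_order (F := F) 2)], map_one])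
      (by rw [← map_mul, ← map_pow, h3, map_one])
    rw [← map_mul, map_eq_one_iff ι hι, PSL2.uu_eq, PSL2.vv_eq, ← map_mul, ← map_one (mk : SL →* PSL),
      PSL2.mk_eq_mk] at h1
    rcases h1 with h1 | h1 <;>
      simpa [SpecialLinearGroup.coe_mul, PSL2.coe_uSL, PSL2.coe_vSL, Matrix.mul_apply, Fin.sum_univ_two] using
        congrFun (congrFun h1 0) 1
  have he2 : ∀ x, e (e x) = x := fun x => by
    have := pow_orderOf_eq_one e
    rw [h2, pow_two] at this
    exact RingEquiv.congr_fun this x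
  -- a fixed element different from `0` and `1`
  obtain ⟨a, ha0, ha1, ha⟩ : ∃ a : F, a ≠ 0 ∧ a ≠ 1 ∧ e a = a := by
    by_contra hcon
    push Not at hcon
    have hfx : ∀ x : F, e x = x → x = 0 ∨ x = 1 := fun x hx =>
      or_iff_not_imp_left.mpr fun h0 => by_contra fun h1 => hcon x h0 h1 hx
    have htr : ∀ x : F, x ≠ 0 → x ≠ 1 → e x = x + 1 := fun x hx0 hx1 => by
      rcases hfx (x + e x) (by rw [map_add, he2, add_comm]) with h0 | h1
      · exact absurd (hfx x (CharTwo.add_eq_zero.mp h0).symm) (not_or.mpr ⟨hx0, hx1⟩)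
      · rw [← h1, ← add_assoc, CharTwo.add_self_eq_zero, zero_add]
    obtain ⟨x, -, hx⟩ := Finset.exists_mem_notMem_of_card_lt_card
      (s := ({0, 1} : Finset F)) (t := Finset.univ) (by
        have := Finset.card_le_two (a := (0 : F)) (b := 1)
        rw [Finset.card_univ]; omega)
    simp only [Finset.mem_insert, Finset.mem_singleton, not_or] at hx
    obtain ⟨y, -, hy⟩ := Finset.exists_mem_notMem_of_card_lt_card
      (s := ({0, 1, x, x + 1} : Finset F)) (t := Finset.univ) (by
        have := Finset.card_le_four (a := (0 : F)) (b := 1) (c := x) (d := x + 1)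
        rw [Finset.card_univ]; omega)
    simp only [Finset.mem_insert, Finset.mem_singleton, not_or] at hy
    rcases hfx (x + y) (by
      rw [map_add, htr x hx.1 hx.2, htr y hy.1 hy.2.1, show x + 1 + (y + 1) = x + y + (1 + 1) by ring,
        CharTwo.add_self_eq_zero, add_zero]) with h0 | h1
    · exact hy.2.2.1 (CharTwo.add_eq_zero.mp h0).symm
    · exact hy.2.2.2 (by rw [← h1, ← add_assoc, CharTwo.add_self_eq_zero, zero_add])
  have hneg : (-1 : F) = 1 := CharTwo.neg_eq 1
  have ht : ι (mk tSL) ∈ L := P.mem_of_commute hg1 hgL hg1 (hfix _ (tSL_fix e))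
    (by rw [orderOf_injective _ hι, tSL_order, hgo, h2]; norm_num)
  have hw : Commute (ι wE) g := hfix _ (EvenCyclicNorm.fieldAut_wE e)
  have hwo : orderOf (ι (wE : PSL)) = 2 := by rw [orderOf_injective _ hι, EvenCyclicNorm.orderOf_wE]
  by_cases hwL : ι wE ∈ L
  · have hc := (commute_in (hnil g hg1) hwL ht (by rw [hwo, orderOf_injective _ hι, tSL_order]; norm_num)).eq
    rw [← map_mul, ← map_mul, hι.eq_iff, wE, ← map_mul, ← map_mul, PSL2.mk_eq_mk] at hc
    rcases hc with hc | hc <;>
      simpa [SpecialLinearGroup.coe_mul, EvenCyclicNorm.coe_wSL, coe_tSL, Matrix.mul_apply, Fin.sum_univ_two, hneg]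
        using congrFun (congrFun hc 0) 1
  have hwN := P.mem_normalizer_of_commute hg1 hgL hg1 hw
  set M : PSL := uu a * PSL2.mk tSL * uu a with hM
  have huu : (uu a : PSL) * uu a = 1 := by
    rw [← map_mul, ← ofAdd_add, CharTwo.add_self_eq_zero, ofAdd_zero, map_one]
  have hMo : orderOf M = 3 := by
    have := Involutions.orderOf_conj (uu a : PSL) (mk tSL)
    rw [inv_eq_of_mul_eq_one_right huu, tSL_order] at this
    rw [hM]
    exact this
  have hMfix : fieldAut e M = M := by rw [hM, map_mul, map_mul, PSL2.fieldAut_uu, ha, tSL_fix]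
  have hML : ι M ∈ L := P.mem_of_commute hg1 hgL hg1 (hfix _ hMfix)
    (by rw [orderOf_injective _ hι, hMo, hgo, h2]; norm_num)
  have hc := (P.comm_of_involution hg1 hwo hwN hwL hML ht).eq
  rw [← map_mul, ← map_mul, hι.eq_iff, hM, PSL2.uu_eq, ← map_mul, ← map_mul, ← map_mul, ← map_mul,
    PSL2.mk_eq_mk] at hc
  rcases hc with hc | hc
  · have h00 := congrFun (congrFun hc 1) 1
    simp [SpecialLinearGroup.coe_mul, PSL2.coe_uSL, coe_tSL, Matrix.mul_apply, Fin.sum_univ_two, hneg] at h00
    have h2' : (2 : F) = 0 := CharTwo.two_eq_zero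
    have : a * (a - 1) = 0 := by grind
    rcases mul_eq_zero.mp this with h | h
    · exact ha0 h
    · exact ha1 (sub_eq_zero.mp h)
  · have h00 := congrFun (congrFun hc 1) 1
    simp [SpecialLinearGroup.coe_mul, PSL2.coe_uSL, coe_tSL, Matrix.mul_apply, Fin.sum_univ_two, hneg] at h00
    have h2' : (2 : F) = 0 := CharTwo.two_eq_zero
    have : a * (a - 1) = 0 := by grind
    rcases mul_eq_zero.mp this with h | h
    · exact ha0 h
    · exact ha1 (sub_eq_zero.mp h)

/-- A rotation. -/
def rotSL (x y : F) (h : x * x + y * y = 1) : SL :=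
  ⟨!![x, y; -y, x], by simp [Matrix.det_fin_two_of]; linear_combination h⟩

omit hnil hι hC in
theorem coe_rotSL (x y : F) (h : x * x + y * y = 1) : (rotSL x y h).1 = !![x, y; -y, x] := rfl

/-- A reflection. -/
def flipSL (x y : F) (h : x * x + y * y = -1) : SL :=
  ⟨!![x, y; y, -x], by simp [Matrix.det_fin_two_of]; linear_combination -h⟩

omit hnil hι hC in
theorem coe_flipSL (x y : F) (h : x * x + y * y = -1) : (flipSL x y h).1 = !![x, y; y, -x] := rfl

/-- No pure field automorphism of prime order in odd characteristic. -/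
theorem pure_odd (p : ℕ) [Fact p.Prime] [CharP F p] (h2 : (2 : F) ≠ 0) {g : G} {e : RingAut F}
    (hr : (orderOf e).Prime) (hg : autHom ι hι g = fieldHom e) : False := by
  classical
  haveI : Fact (Nat.Prime 2) := ⟨Nat.prime_two⟩
  have hp2 : p ≠ 2 := fun e2 => h2 (by
    subst e2
    exact_mod_cast CharP.cast_eq_zero F 2)
  have hgo := order_of_pure P hnil ι hι hC hg
  have hg1 : g ≠ 1 := fun e1 => hr.ne_one (by rw [← hgo, e1, orderOf_one])
  set L := P.comp g with hL
  have hgL := P.self_mem g hg1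
  have hfix := fun (x : PSL) hx => (commute_of_field P hnil ι hι hC hg (x := x) hx).symm
  have hw : Commute (ι wE) g := hfix _ (EvenCyclicNorm.fieldAut_wE e)
  have hwo : orderOf (ι (wE : PSL)) = 2 := by rw [orderOf_injective _ hι, EvenCyclicNorm.orderOf_wE]
  rcases hr.eq_two_or_odd' with hr2 | hodd
  · have hu : ι (uu 1) ∈ L := P.mem_of_commute hg1 hgL hg1 (hfix _ (by rw [PSL2.fieldAut_uu, map_one]))
      (by rw [orderOf_injective _ hι, uu_order p, hgo, hr2]; exact hp2)
    have key : ι wE * ι (uu 1) * (ι wE)⁻¹ ≠ ι (uu 1) ∧ ι wE * ι (uu 1) * (ι wE)⁻¹ ≠ (ι (uu 1))⁻¹ := by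
      rw [← map_inv, ← map_mul, ← map_mul, ← map_inv, ne_eq, hι.eq_iff, ne_eq, hι.eq_iff]
      refine ⟨EvenCyclicNorm.wE_conj_uu 1, fun h => EvenCyclicNorm.wE_conj_uu (-1 : F) (h.trans ?_)⟩
      rw [← map_inv, ← ofAdd_neg]
    by_cases hwL : ι wE ∈ L
    · have hc := commute_in (hnil g hg1) hwL hu (by
        rw [hwo, orderOf_injective _ hι, uu_order p]
        exact (Nat.coprime_primes Nat.prime_two Fact.out).mpr (Ne.symm hp2))
      exact key.1 (by rw [hc.eq, mul_inv_cancel_right])
    · exact key.2 (P.inverts hg1 hwo (P.mem_normalizer_of_commute hg1 hgL hg1 hw) hwL hu)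
  have hodd' : ∀ z : G, orderOf z = 2 → orderOf z ≠ orderOf g := fun z hz e2 => by
    rw [hz, hgo] at e2
    rw [← e2] at hodd
    exact Nat.not_odd_iff_even.mpr even_two hodd
  have hwL : ι wE ∈ L := P.mem_of_commute hg1 hgL hg1 hw (hodd' _ hwo)
  have hw1 : ι (wE : PSL) ≠ 1 := fun e1 => by rw [e1, orderOf_one] at hwo; omega
  -- a fixed involution inverting the rotations
  haveI : NeZero p := ⟨(Fact.out : p.Prime).ne_zero⟩
  obtain ⟨a, b, hab⟩ := CharP.sq_add_sq F p (-1)
  push_cast at hab
  set Y : SL := flipSL (a : F) b (by linear_combination hab) with hY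
  have hYfix : fieldAut e (mk Y) = mk Y := by
    rw [PSL2.fieldAut_apply]
    congr 1
    apply Subtype.ext
    rw [SpecialLinearGroup.map_apply_coe]
    ext i j
    fin_cases i <;> fin_cases j <;> simp [hY, coe_flipSL]
  have hYo : orderOf (ι (mk Y)) = 2 := by
    rw [orderOf_injective _ hι]
    refine orderOf_eq_prime ?_ ?_
    · rw [← map_pow, ← map_one (mk : SL →* PSL), PSL2.mk_eq_mk]
      refine Or.inr ?_
      ext i j
      fin_cases i <;> fin_cases j <;>
        simp [pow_two, SpecialLinearGroup.coe_mul, hY, coe_flipSL, Matrix.mul_apply, Fin.sum_univ_two] <;>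
        grind
    · intro e1
      rw [← map_one (mk : SL →* PSL), PSL2.mk_eq_mk] at e1
      rcases e1 with e2 | e2 <;>
      · have h00 := congrFun (congrFun e2 0) 0
        have h11 := congrFun (congrFun e2 1) 1
        simp [hY, coe_flipSL] at h00 h11
        exact h2 (by grind)
  have hYL : ι (mk Y) ∈ L := P.mem_of_commute hg1 hgL hg1 (hfix _ hYfix) (hodd' _ hYo)
  -- all rotations are fixed
  have hrot : ∀ x y : F, x * x + y * y = 1 → e x = x ∧ e y = y := by
    intro x y hxy
    by_cases h0 : x * y = 0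
    · rcases mul_eq_zero.mp h0 with h | h
      · subst h
        rcases mul_self_eq_one_iff.mp (by linear_combination hxy : y * y = 1) with h' | h' <;> simp [h']
      · subst h
        rcases mul_self_eq_one_iff.mp (by linear_combination hxy : x * x = 1) with h' | h' <;> simp [h']
    set R := ι (mk (rotSL x y hxy)) with hR
    have hRw : Commute R (ι wE) := by
      refine Commute.map ?_ ι
      show _ = _
      rw [wE, ← map_mul, ← map_mul]
      congr 1
      apply Matrix.SpecialLinearGroup.ext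
      intro i j
      fin_cases i <;> fin_cases j <;>
        simp [coe_rotSL, EvenCyclicNorm.coe_wSL, SpecialLinearGroup.coe_mul, Matrix.mul_apply, Fin.sum_univ_two]
    have hRo : orderOf R ≠ 2 := fun e2 => by
      have h := mul_self_eq_one_of_orderOf e2
      rw [hR, ← map_mul, map_eq_one_iff ι hι, ← map_mul, ← map_one (mk : SL →* PSL), PSL2.mk_eq_mk] at h
      rcases h with h | h <;>
      · have h01 := congrFun (congrFun h 0) 1
        simp [coe_rotSL, SpecialLinearGroup.coe_mul, Matrix.mul_apply, Fin.sum_univ_two] at h01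
        exact h0 (by grind)
    have hRL : R ∈ L := by
      have := P.mem_of_commute hw1 (P.self_mem _ hw1) hw1 hRw (by rw [hwo]; exact hRo)
      rwa [P.comp_eq g _ hg1 hw1 hwL] at this
    have hinv : ι (mk Y) * R * (ι (mk Y))⁻¹ = R⁻¹ := by
      rw [inv_eq_self_of_orderOf hYo, eq_inv_iff_mul_eq_one, hR, ← map_mul, ← map_mul, ← map_mul,
        map_eq_one_iff ι hι, ← map_mul, ← map_mul, ← map_mul, ← map_one (mk : SL →* PSL), PSL2.mk_eq_mk]
      refine Or.inr ?_
      ext i j
      fin_cases i <;> fin_cases j <;>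
        simp [SpecialLinearGroup.coe_mul, hY, coe_flipSL, coe_rotSL, Matrix.mul_apply, Fin.sum_univ_two] <;> grind
    obtain ⟨k, hk⟩ := two_power_of_inverted (hnil g hg1) hYo hRL hYL hinv
    have hc : Commute g R := commute_in (hnil g hg1) hgL hRL
      ((Nat.Coprime.pow_right k (Nat.coprime_two_right.mpr (hgo ▸ hodd))).coprime_dvd_right
        (orderOf_dvd_of_pow_eq_one hk))
    have h1 := EvenCyclicNorm.autHom_spec ι hι g (mk (rotSL x y hxy))
    rw [← hR, hc.eq, mul_inv_cancel_right, hR, hι.eq_iff, hg] at h1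
    change fieldAut e _ = _ at h1
    rw [PSL2.fieldAut_apply, PSL2.mk_eq_mk] at h1
    rcases h1 with h1 | h1
    · exact ⟨by simpa [coe_rotSL] using (congrFun (congrFun h1 0) 0).symm,
        by simpa [coe_rotSL] using (congrFun (congrFun h1 0) 1).symm⟩
    · -- an automorphism of odd order negates nothing
      exfalso
      have hx : e x = -x := by
        have := congrFun (congrFun h1 0) 0
        simp [coe_rotSL] at this
        grind
      have hpow : ∀ n : ℕ, Odd n → (e ^ n) x = -x := by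
        rintro n ⟨i, rfl⟩
        induction i with
        | zero => simpa using hx
        | succ i ih =>
          rw [show 2 * (i + 1) + 1 = 2 * i + 1 + 1 + 1 by ring, pow_succ', pow_succ']
          show e (e ((e ^ (2 * i + 1)) x)) = -x
          rw [ih, map_neg, hx, neg_neg, hx]
      have h2' := hpow _ hodd
      rw [pow_orderOf_eq_one] at h2'
      change x = -x at h2'
      exact h0 (by rw [show x = 0 from by grind, zero_mul])
  obtain ⟨t, ht⟩ : ∃ t, e t ≠ t := by
    by_contra hh
    push Not at hh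
    rw [show e = 1 from RingEquiv.ext hh, orderOf_one] at hr
    exact Nat.not_prime_one hr
  obtain ⟨t, ht, ht1⟩ : ∃ t, e t ≠ t ∧ 1 + t * t ≠ 0 := by
    by_cases h : 1 + t * t = 0
    · refine ⟨t + 1, fun h' => ht (by simpa using h'), fun h' => ht ?_⟩
      have : t = -1 / 2 := by grind
      rw [this, map_div₀, map_neg, map_one, map_ofNat]
    · exact ⟨t, ht, h⟩
  obtain ⟨hx, hy⟩ := hrot ((1 - t * t) / (1 + t * t)) (2 * t / (1 + t * t)) (by grind)
  have e1 : (2 * t / (1 + t * t)) / (1 + (1 - t * t) / (1 + t * t)) = t := by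
    have : 1 + (1 - t * t) / (1 + t * t) = 2 / (1 + t * t) := by grind
    rw [this, div_div_div_cancel_right₀ ht1, mul_div_cancel_left₀ _ h2]
  exact ht (by rw [← e1, map_div₀, map_add, map_one, hx, hy])

/-- No field automorphism of order two times an outer diagonal automorphism. -/
theorem mixed (p : ℕ) [Fact p.Prime] [CharP F p] (h2 : (2 : F) ≠ 0) {g : G} {e : RingAut F} (he : orderOf e = 2)
    {ζ : Fˣ} (hζ : ∀ x : Fˣ, x ∈ zpowers ζ) (hg : autHom ι hι g = diagAut (dil ζ) * fieldHom e) : False := by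
  classical
  haveI : Fact (Nat.Prime 2) := ⟨Nat.prime_two⟩
  have he2 : ∀ x, e (e x) = x := fun x => by
    have := pow_orderOf_eq_one e
    rw [he, pow_two] at this
    exact RingEquiv.congr_fun this x
  obtain ⟨x₀, hx₀⟩ : ∃ x₀, e x₀ ≠ x₀ := by
    by_contra hcon
    push Not at hcon
    rw [show e = 1 from RingEquiv.ext hcon, orderOf_one] at he
    omega
  set eU : Fˣ →* Fˣ := Units.map (e : F →* F)
  have hζe : eU ζ ≠ ζ := by
    intro hfe
    by_cases h0 : x₀ = 0
    · exact hx₀ (by rw [h0, map_zero])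
    · obtain ⟨k, hk⟩ := hζ (Units.mk0 x₀ h0)
      have h3 := congrArg eU (show ζ ^ k = Units.mk0 x₀ h0 from hk)
      rw [map_zpow, hfe, show ζ ^ k = Units.mk0 x₀ h0 from hk] at h3
      exact hx₀ (congrArg Units.val h3).symm
  have hidx : ∃ d : Fˣ, d * d = ζ * eU ζ := by
    obtain ⟨j, hj⟩ := hζ (eU ζ)
    replace hj : ζ ^ j = eU ζ := hj
    rcases Int.even_or_odd j with ⟨i, hi⟩ | ⟨i, hi⟩
    · exfalso
      have h3 : eU ζ = ζ ^ i * ζ ^ i := by rw [← _root_.zpow_add, ← hi, hj]
      obtain ⟨b, hb⟩ : ∃ b : Fˣ, ζ = b * b := ⟨eU (ζ ^ i), by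
        rw [← map_mul, ← h3]
        exact Units.ext (he2 ζ).symm⟩
      have : Function.Surjective (powMonoidHom 2 : Fˣ →* Fˣ) := fun x => by
        obtain ⟨k, hk⟩ := hζ x
        refine ⟨b ^ k, ?_⟩
        rw [powMonoidHom_apply, pow_two, ← mul_zpow, ← hb]
        exact hk
      have h11 := Finite.injective_iff_surjective.mpr this (a₁ := -1) (a₂ := 1) (by simp)
      have h12 := congrArg Units.val h11
      simp at h12
      exact h2 (by linear_combination -h12)
    · exact ⟨ζ ^ (i + 1), by rw [← hj, ← _root_.zpow_add, mul_comm, ← _root_.zpow_add_one]; congr 1; omega⟩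
  obtain ⟨d, hd⟩ := hidx
  have hgg : g * g = ι (dHom d) := by
    apply EvenCyclicNorm.autHom_injective ι hι hC
    rw [EvenCyclicNorm.autHom_inner, ← EvenCyclicNorm.diagAut_dil_sq, hd, map_mul, hg]
    have hmap : GeneralLinearGroup.map (e : F ≃+* F).toRingHom (dil ζ) = dil (eU ζ) := Units.ext (by
      ext i j
      fin_cases i <;> fin_cases j <;> simp [dil, eU])
    have hee : fieldHom e * fieldHom e = 1 := by
      have h' := pow_orderOf_eq_one e
      rw [he] at h'
      rw [← map_mul, ← pow_two, h', map_one]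
    calc diagAut (dil ζ) * fieldHom e * (diagAut (dil ζ) * fieldHom e)
        = diagAut (dil ζ) * (fieldAut e * diagAut (dil ζ)) * fieldHom e := by simp only [mul_assoc]; rfl
      _ = diagAut (dil (ζ * eU ζ)) * (fieldHom e * fieldHom e) := by
          rw [PSL2.fieldAut_mul_diagAut, hmap, map_mul, map_mul]; simp only [mul_assoc]; rfl
      _ = diagAut (dil (ζ * eU ζ)) := by rw [hee, mul_one]
  -- the diagonal element has even order
  have hev : Even (orderOf (dHom d)) := by
    rw [← Nat.not_odd_iff_even]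
    intro hodd
    set m := orderOf (dHom d)
    have h1 : dHom (d ^ m) = dHom 1 := by rw [map_pow, pow_orderOf_eq_one, map_one]
    have hs : (ζ * eU ζ) ^ m = 1 := by
      rw [← hd, mul_pow]
      rcases EvenCyclicNorm.dHom_eq_iff.mp h1 with e1 | e1
      · rw [← e1, one_mul]
      · rw [neg_eq_iff_eq_neg.mp e1.symm]; simp
    obtain ⟨x, hx⟩ := EvenCyclicNorm.neg_one_norm p h2 he2 hx₀
    have hx0 : x ≠ 0 := fun e1 => by rw [e1, zero_mul] at hx; exact one_ne_zero (neg_eq_zero.mp hx.symm)
    obtain ⟨j, hj⟩ := hζ (Units.mk0 x hx0)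
    replace hj : ζ ^ j = Units.mk0 x hx0 := hj
    have hn1 : (ζ * eU ζ) ^ j = -1 := by
      rw [mul_zpow, ← map_zpow, hj]
      exact Units.ext (by simpa [eU] using hx)
    have h3 : ((-1 : Fˣ)) ^ m = 1 := by
      rw [← hn1, ← zpow_natCast, ← _root_.zpow_mul, mul_comm j, _root_.zpow_mul, zpow_natCast, hs, _root_.one_zpow]
    rw [hodd.neg_one_pow] at h3
    have h4 := congrArg Units.val h3
    simp at h4
    exact h2 (by linear_combination -h4)
  set D := dHom d
  set z := D ^ (orderOf D / 2) with hz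
  have hz2 : orderOf z = 2 := orderOf_pow_orderOf_div (orderOf_pos D).ne' hev.two_dvd
  have hzw : Commute (wE : PSL) z := by
    have := EvenCyclicNorm.wE_conj_dHom (d ^ (orderOf D / 2))
    rw [map_pow, map_inv, map_pow] at this
    rw [← hz, inv_eq_self_of_orderOf hz2] at this
    exact mul_inv_eq_iff_eq_mul.mp this
  have hg1 : g ≠ 1 := fun e1 => by
    rw [e1, mul_one, eq_comm, map_eq_one_iff ι hι] at hgg
    rw [hz, show D = 1 from hgg, one_pow, orderOf_one] at hz2
    omega
  have hzg : ι z = g ^ (2 * (orderOf D / 2)) := by rw [hz, map_pow, ← hgg, ← pow_two, ← pow_mul]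
  have hzo : orderOf (ι z) = 2 := by rw [orderOf_injective _ hι, hz2]
  set L := P.comp g with hL
  have hgL := P.self_mem g hg1
  have hzL : ι z ∈ L := hzg ▸ pow_mem hgL _
  have hz1 : ι z ≠ 1 := fun e1 => by rw [e1, orderOf_one] at hzo; omega
  have hcw : Commute (ι wE) (ι z) := hzw.map ι
  have hwN := P.mem_normalizer_of_commute hg1 hzL hz1 hcw
  have hwo : orderOf (ι (wE : PSL)) = 2 := by rw [orderOf_injective _ hι, EvenCyclicNorm.orderOf_wE]
  have hgw : g * ι wE * g⁻¹ = ι (dHom ζ) * ι wE := by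
    rw [← map_mul, ← EvenCyclicNorm.autHom_spec ι hι g wE, hg, MulAut.mul_apply,
      show fieldHom e wE = wE from EvenCyclicNorm.fieldAut_wE e, EvenCyclicNorm.diagAut_dil_wE]
  by_cases hwL : ι wE ∈ L
  swap
  · have h1 := P.inverts hg1 hwo hwN hwL hgL
    have h3 : g * ι wE * g⁻¹ = g * g * ι wE := by
      calc g * ι wE * g⁻¹ = g * (ι wE * g⁻¹ * (ι wE)⁻¹) * ι wE := by group
        _ = g * g * ι wE := by
          rw [show ι wE * g⁻¹ * (ι wE)⁻¹ = (ι wE * g * (ι wE)⁻¹)⁻¹ by group, h1, inv_inv]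
    rw [hgw, hgg] at h3
    rcases EvenCyclicNorm.dHom_eq_iff.mp (hι (mul_right_cancel h3)) with e1 | e1
    · exact hζe (mul_left_cancel (a := ζ) (by rw [← hd, e1]))
    · exact hζe (mul_left_cancel (a := ζ) (by rw [← hd, e1, neg_mul_neg]))
  have hDL : ι (dHom ζ) ∈ L := by
    have := mul_mem (mul_mem (mul_mem hgL hwL) (inv_mem hgL)) (inv_mem hwL)
    rwa [hgw, mul_inv_cancel_right] at this
  obtain ⟨k, hk⟩ := two_power_of_inverted (hnil g hg1) hwo hDL hwL
    (by rw [← map_inv, ← map_mul, ← map_mul, EvenCyclicNorm.wE_conj_dHom, map_inv, map_inv])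
  rw [← map_pow, map_eq_one_iff ι hι, ← map_pow, ← map_one (dHom (F := F))] at hk
  have hk' : ζ ^ 2 ^ (k + 1) = 1 := by
    rcases EvenCyclicNorm.dHom_eq_iff.mp hk with h | h
    · rw [pow_succ, pow_mul, ← h, one_pow]
    · rw [pow_succ, pow_mul, neg_eq_iff_eq_neg.mp h.symm]; simp
  have hord : orderOf ζ + 1 = Fintype.card F := by
    rw [orderOf_eq_card_of_forall_mem_zpowers hζ, Nat.card_eq_fintype_card, Fintype.card_units]
    have := Fintype.card_pos (α := F)
    omega
  obtain ⟨l, -, hl⟩ := (Nat.dvd_prime_pow Nat.prime_two).mp (orderOf_dvd_of_pow_eq_one hk')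
  obtain ⟨s, hs⟩ := EvenCyclicNorm.card_sq h2 he2 hx₀
  have hl3 : 3 ≤ l := by
    by_contra hlt
    have hle : 2 ^ l ≤ 4 := Nat.pow_le_pow_right two_pos (show l ≤ 2 by omega)
    have hs3 : s < 3 := by
      by_contra hge
      have := Nat.mul_le_mul (Nat.le_of_not_lt hge) (Nat.le_of_not_lt hge)
      omega
    have hF2 := Fintype.one_lt_card (α := F)
    interval_cases s <;> try omega
    haveI : CharP F 2 := charP_of_card_eq_prime_pow (f := 2) (by rw [hs]; norm_num)
    exact h2 CharTwo.two_eq_zero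
  -- an element of order eight
  set a : Fˣ := ζ ^ 2 ^ (l - 3) with ha
  have hao : orderOf a = 8 := by
    rw [ha, orderOf_pow' _ (Nat.pow_pos two_pos).ne', hl, Nat.gcd_eq_right (Nat.pow_dvd_pow 2 (Nat.sub_le l 3)),
      Nat.pow_div (Nat.sub_le l 3) two_pos, show l - (l - 3) = 3 by omega]
    norm_num
  have ha4 : (a : F) ^ 4 = -1 := by
    have h8 : (a : F) ^ 8 = 1 := by rw [← Units.val_pow_eq_pow_val, ← hao, pow_orderOf_eq_one, Units.val_one]
    rcases mul_self_eq_one_iff.mp (show (a : F) ^ 4 * (a : F) ^ 4 = 1 by rw [← pow_add]; exact h8) with h | h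
    · exfalso
      have : a ^ 4 = 1 := Units.ext (by rw [Units.val_pow_eq_pow_val, h, Units.val_one])
      have := Nat.le_of_dvd (by norm_num) (hao ▸ orderOf_dvd_of_pow_eq_one this)
      omega
    · exact h
  set x : F := ((a : F) + (a : F)⁻¹) / 2 with hx
  set y : F := ((a : F) - (a : F)⁻¹) / (2 * (a : F) ^ 2) with hy
  have ha0 : (a : F) ≠ 0 := a.ne_zero
  have hxy : x * x + y * y = 1 := by rw [hx, hy]; grind
  set R := ι (mk (rotSL x y hxy)) with hR
  have hR2 : R * R = ι wE := by
    rw [hR, wE, ← map_mul, ← map_mul]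
    congr 2
    apply Matrix.SpecialLinearGroup.ext
    intro i j
    fin_cases i <;> fin_cases j <;>
      simp [coe_rotSL, SpecialLinearGroup.coe_mul, EvenCyclicNorm.coe_wSL, Matrix.mul_apply, Fin.sum_univ_two] <;>
        (rw [hx, hy]; grind)
  have hw1 : ι (wE : PSL) ≠ 1 := fun e1 => by rw [e1, orderOf_one] at hwo; omega
  have hR4 : R ^ 2 ^ 2 = 1 := by
    rw [show (2 : ℕ) ^ 2 = 2 * 2 by norm_num, pow_mul, pow_two R, hR2, pow_two, mul_self_eq_one_of_orderOf hwo]
  have hRL : R ∈ L := by
    have := P.mem_of_composite hw1 (P.self_mem _ hw1) hw1 (y := R) (by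
      rw [← hR2]; exact (Commute.refl R).mul_right (Commute.refl R)) fun hp => by
      have h' := (Nat.prime_dvd_prime_iff_eq hp Nat.prime_two).mp
        (hp.dvd_of_dvd_pow (orderOf_dvd_of_pow_eq_one hR4))
      rw [mul_self_eq_one_of_orderOf h'] at hR2
      exact hw1 hR2.symm
    rwa [P.comp_eq g _ hg1 hw1 hwL] at this
  have haL : ι (dHom a) ∈ L := by rw [ha, map_pow, map_pow]; exact pow_mem hDL _
  have h3 : (dHom a * mk (rotSL x y hxy)) ^ 3 = 1 := by
    rw [EvenCyclicNorm.dHom_apply, ← map_mul, ← map_pow, ← map_one (mk : SL →* PSL), PSL2.mk_eq_mk]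
    refine Or.inr ?_
    have htr : ((a : F) + (a : F)⁻¹) * x = 1 := by rw [hx]; field_simp; linear_combination ha4
    ext i j
    fin_cases i <;> fin_cases j <;>
      simp [pow_succ, SpecialLinearGroup.coe_mul, PSL2.coe_dSL, coe_rotSL, Matrix.mul_apply, Fin.sum_univ_two] <;> grind
  have h1 := eq_one_of_two_three (hnil g hg1) haL hRL (i := 3) (j := 2)
    (by rw [← map_pow, ← map_pow, show a ^ 2 ^ 3 = 1 by rw [show (2 : ℕ) ^ 3 = orderOf a by rw [hao]; norm_num, pow_orderOf_eq_one], map_one, map_one]) hR4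
    (by rw [hR, ← map_mul, ← map_pow, h3, map_one])
  rw [hR, ← map_mul, map_eq_one_iff ι hι, EvenCyclicNorm.dHom_apply, ← map_mul, ← map_one (mk : SL →* PSL),
    PSL2.mk_eq_mk] at h1
  have hy0 : y ≠ 0 := by
    rw [hy]
    refine div_ne_zero (fun h => h2 ?_) (mul_ne_zero h2 (pow_ne_zero _ ha0))
    have hsq : (a : F) * a = 1 := by rw [sub_eq_zero] at h; field_simp at h; linear_combination h
    linear_combination ha4 - ((a : F) * a + 1) * hsq
  rcases h1 with h | h <;>
  · have h01 := congrFun (congrFun h 0) 1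
    simp [coe_rotSL, PSL2.coe_dSL, SpecialLinearGroup.coe_mul, Matrix.mul_apply, Fin.sum_univ_two, hy0] at h01

end CfsgLib.Partition
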