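import Cfsg.Agent.Lib.Partition.Parts
import Cfsg.Agent.Lib.Partition.Socle
import Cfsg.Agent.Lib.CIT.Outcome

/-!
`PSL₃(4)` has no partition.
-/

set_option autoImplicit false
set_option linter.unusedSectionVars false
set_option linter.style.haveILetI false

namespace CfsgLib.Partition

open Subgroup
open scoped MatrixGroups

universe u

section Upper

variable {F : Type} [Field F]

/-- An upper unitriangular matrix. -/
def upperTri (a b c : F) : Matrix.SpecialLinearGroup (Fin 3) F :=
  ⟨!![1, a, c; 0, 1, b; 0, 0, 1], by simp [Matrix.det_fin_three]⟩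

theorem coe_upperTri (a b c : F) :
    (upperTri a b c : Matrix (Fin 3) (Fin 3) F) = !![1, a, c; 0, 1, b; 0, 0, 1] := rfl

theorem upperTri_mul (a b c a' b' c' : F) :
    upperTri a b c * upperTri a' b' c' = upperTri (a + a') (b + b') (c + c' + a * b') := by
  apply Subtype.ext
  rw [Matrix.SpecialLinearGroup.coe_mul, coe_upperTri, coe_upperTri, coe_upperTri]
  ext i j
  fin_cases i <;> fin_cases j <;> simp [Matrix.mul_apply, Fin.sum_univ_three] <;> ring

theorem upperTri_zero : upperTri (0 : F) 0 0 = 1 := by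
  apply Subtype.ext
  rw [coe_upperTri, Matrix.SpecialLinearGroup.coe_one]
  ext i j
  fin_cases i <;> fin_cases j <;> simp

end Upper

variable {G : Type u} [Group G] [Finite G] [IsSimpleGroup G]

theorem no_l34 (P : Part G) (h : CIT.L34Type G) : False := by
  classical
  obtain ⟨F, iF, iFt, hF, ⟨e⟩⟩ := h
  haveI : Fact (Nat.Prime 2) := ⟨Nat.prime_two⟩
  haveI : CharP F 2 := charP_of_card_eq_prime_pow (f := 2) (by rw [hF]; norm_num)
  obtain ⟨w, hw0, hw1⟩ : ∃ w : F, w ≠ 0 ∧ w ≠ 1 := by
    obtain ⟨w, hw⟩ : ∃ w : F, w ∉ ({0, 1} : Finset F) := by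
      by_contra hh
      push Not at hh
      have := Finset.card_le_card (show (Finset.univ : Finset F) ⊆ {0, 1} from fun x _ => hh x)
      rw [Finset.card_univ, hF] at this
      have := Finset.card_le_two (a := (0 : F)) (b := 1)
      omega
    simp only [Finset.mem_insert, Finset.mem_singleton, not_or] at hw
    exact ⟨w, hw.1, hw.2⟩
  set φ : Matrix.SpecialLinearGroup (Fin 3) F →* G := e.symm.toMonoidHom.comp (QuotientGroup.mk' _) with hφ
  have hker : ∀ g, φ g = 1 → (g : Matrix (Fin 3) (Fin 3) F) 0 1 = 0 ∧ (g : Matrix (Fin 3) (Fin 3) F) 0 2 = 0 ∧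
      (g : Matrix (Fin 3) (Fin 3) F) 1 2 = 0 := by
    intro g hg
    have h1 : (QuotientGroup.mk' _ g : Matrix.ProjectiveSpecialLinearGroup (Fin 3) F) = 1 :=
      e.symm.injective (hg.trans (map_one _).symm)
    obtain ⟨r, -, hr⟩ := Matrix.SpecialLinearGroup.mem_center_iff.mp ((QuotientGroup.eq_one_iff g).mp h1)
    rw [← hr]
    simp
  set z := upperTri (0 : F) 0 1 with hz
  have hzne : φ z ≠ 1 := fun h' => by simpa [hz, coe_upperTri] using (hker _ h').2.1
  set L := P.comp (φ z) with hL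
  have hzL : φ z ∈ L := P.self_mem _ hzne
  have hU : ∀ a b : F, a ≠ 0 → b ≠ 0 → φ (upperTri a b 0) ∈ L := by
    intro a b ha hb
    have h2 : upperTri a b 0 * upperTri a b 0 = upperTri 0 0 (a * b) := by
      rw [upperTri_mul, CharTwo.add_self_eq_zero, CharTwo.add_self_eq_zero, add_zero, zero_add]
    have hne : φ (upperTri a b 0) * φ (upperTri a b 0) ≠ 1 := by
      rw [← map_mul, h2]
      intro h'
      simpa [coe_upperTri, ha, hb] using (hker _ h').2.1
    have h4 : φ (upperTri a b 0) ^ 4 = 1 := by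
      rw [← map_pow, show (4 : ℕ) = 2 * 2 by norm_num, pow_mul, pow_two (upperTri a b 0), h2, pow_two, upperTri_mul,
        add_zero, CharTwo.add_self_eq_zero, zero_mul, add_zero, upperTri_zero, map_one]
    have hc : Commute (φ (upperTri a b 0)) (φ z) := by
      refine Commute.map ?_ φ
      show _ = _
      rw [hz, upperTri_mul, upperTri_mul]
      simp
    refine P.mem_of_composite hzne hzL hzne hc fun hp => hne ?_
    have : orderOf (φ (upperTri a b 0)) = 2 := (Nat.prime_dvd_prime_iff_eq hp Nat.prime_two).mp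
      (hp.dvd_of_dvd_pow (show _ ∣ 2 ^ 2 from orderOf_dvd_of_pow_eq_one (by simpa using h4)))
    exact Involutions.mul_self_eq_one_of_orderOf this
  have ha : (1 : F) + w ≠ 0 := fun h' => hw1 ((CharTwo.add_eq_zero.mp h').symm)
  have hA : φ (upperTri (1 + w) 0 0) ∈ L := by
    have := mul_mem (mul_mem (hU 1 1 one_ne_zero one_ne_zero) (hU w 1 hw0 one_ne_zero)) hzL
    have e1 : upperTri 1 1 0 * upperTri w 1 0 * z = upperTri (1 + w) (0 : F) 0 := by
      rw [hz, upperTri_mul, upperTri_mul]
      simp [CharTwo.add_self_eq_zero]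
    rwa [← map_mul, ← map_mul, e1] at this
  have hB : φ (upperTri 0 1 0) ∈ L := by
    have := mul_mem (hU (1 + w) 1 ha one_ne_zero) hA
    have e1 : upperTri (1 + w) 1 0 * upperTri (1 + w) 0 0 = upperTri (0 : F) 1 0 := by
      rw [upperTri_mul]
      simp [CharTwo.add_self_eq_zero]
    rwa [← map_mul, e1] at this
  have hC : φ (upperTri 1 0 0) ∈ L := by
    have := mul_mem (mul_mem (hU 1 1 one_ne_zero one_ne_zero) hB) hzL
    have e1 : upperTri 1 1 0 * upperTri 0 1 0 * z = upperTri (1 : F) 0 0 := by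
      rw [hz, upperTri_mul, upperTri_mul]
      simp [CharTwo.add_self_eq_zero]
    rwa [← map_mul, ← map_mul, e1] at this
  have hneg : (-1 : F) = 1 := CharTwo.neg_eq 1
  let S : Matrix.SpecialLinearGroup (Fin 3) F := ⟨!![1, 0, 0; 0, 0, 1; 0, 1, 0], by
    simp [Matrix.det_fin_three, hneg]⟩
  let V : Matrix.SpecialLinearGroup (Fin 3) F := ⟨!![1, 0, 0; 0, 1, 0; 0, 1, 1], by
    simp [Matrix.det_fin_three]⟩
  have hS1 : S * z = upperTri 1 0 0 * S := by
    apply Subtype.ext
    rw [Matrix.SpecialLinearGroup.coe_mul, Matrix.SpecialLinearGroup.coe_mul]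
    ext i j
    fin_cases i <;> fin_cases j <;> simp [S, hz, coe_upperTri, Matrix.mul_apply, Fin.sum_univ_three]
  have hS2 : S * upperTri 0 1 0 = V * S := by
    apply Subtype.ext
    rw [Matrix.SpecialLinearGroup.coe_mul, Matrix.SpecialLinearGroup.coe_mul]
    ext i j
    fin_cases i <;> fin_cases j <;> simp [S, V, coe_upperTri, Matrix.mul_apply, Fin.sum_univ_three]
  have hC1 : φ (upperTri 1 0 0) ≠ 1 := fun h' => by simpa [coe_upperTri] using (hker _ h').1
  have hV : φ V ∈ L := by
    have h1 := (P.conj_iff (φ S) (φ z) (φ (upperTri 0 1 0)) hzne).mp hB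
    rwa [show φ S * φ (upperTri 0 1 0) * (φ S)⁻¹ = φ V by rw [← map_mul, hS2, map_mul, mul_inv_cancel_right],
      show φ S * φ z * (φ S)⁻¹ = φ (upperTri 1 0 0) by rw [← map_mul, hS1, map_mul, mul_inv_cancel_right],
      P.comp_eq _ _ hzne hC1 hC] at h1
  have hp2 : ∀ g : Matrix.SpecialLinearGroup (Fin 3) F, g * g = 1 → φ g ^ 2 ^ 1 = 1 := fun g hg => by
    rw [pow_one, ← map_pow, pow_two, hg, map_one]
  obtain ⟨k, hk⟩ := mul_primary (P.nilpotent (fun C => no_frobenius_of_simple C) hzne) hB hV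
    (hp2 _ (by rw [upperTri_mul, CharTwo.add_self_eq_zero, CharTwo.add_self_eq_zero, mul_one, add_zero, upperTri_zero]))
    (hp2 _ (by
      apply Subtype.ext
      rw [Matrix.SpecialLinearGroup.coe_mul, Matrix.SpecialLinearGroup.coe_one]
      ext i j
      fin_cases i <;> fin_cases j <;> simp [V, Matrix.mul_apply, Fin.sum_univ_three, CharTwo.add_self_eq_zero]))
  have h3 : (upperTri 0 1 0 * V) ^ 3 = 1 := by
    apply Subtype.ext
    rw [pow_succ, pow_two]
    simp only [Matrix.SpecialLinearGroup.coe_mul, Matrix.SpecialLinearGroup.coe_one]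
    ext i j
    fin_cases i <;> fin_cases j <;>
      simp [V, coe_upperTri, Matrix.mul_apply, Fin.sum_univ_three, CharTwo.add_self_eq_zero]
  rw [← map_mul] at hk
  have h1 : φ (upperTri 0 1 0 * V) = 1 := by
    rw [← orderOf_eq_one_iff]
    exact Nat.eq_one_of_dvd_coprimes (Nat.Coprime.pow_right k (by norm_num : Nat.Coprime 3 2))
      (orderOf_dvd_of_pow_eq_one (by rw [← map_pow, h3, map_one])) (orderOf_dvd_of_pow_eq_one hk)
  have h12 := (hker _ h1).2.2
  rw [Matrix.SpecialLinearGroup.coe_mul, coe_upperTri,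
    show ((V : Matrix.SpecialLinearGroup (Fin 3) F) : Matrix (Fin 3) (Fin 3) F) = !![1, 0, 0; 0, 1, 0; 0, 1, 1] from rfl] at h12
  simp [Matrix.mul_apply, Fin.sum_univ_three] at h12

end CfsgLib.Partition
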