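import Cfsg.Agent.Lib.Partition.Basic
import Cfsg.Agent.Lib.NilpotentCommute
import Cfsg.Agent.Lib.Elementary

/-!
The primary parts of a nilpotent component.
-/

set_option autoImplicit false
set_option linter.unusedSectionVars false
set_option linter.style.haveILetI false

namespace CfsgLib.Partition

open Subgroup

universe u

variable {G : Type u} [Group G] [Finite G]

theorem mul_primary {H : Subgroup G} (hn : Group.IsNilpotent H) {p : ℕ} [Fact p.Prime] {x y : G} (hx : x ∈ H)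
    (hy : y ∈ H) {i j : ℕ} (hi : x ^ p ^ i = 1) (hj : y ^ p ^ j = 1) : ∃ k, (x * y) ^ p ^ k = 1 := by
  haveI := hn
  obtain ⟨P⟩ : Nonempty (Sylow p H) := inferInstance
  haveI hPn : (P : Subgroup H).Normal :=
    (Group.isNilpotent_of_finite_tfae (G := H)).out 0 3 rfl rfl |>.mp hn p inferInstance P
  haveI := Sylow.unique_of_normal P hPn
  have key : ∀ (z : G) (hz : z ∈ H) (n : ℕ), z ^ p ^ n = 1 → (⟨z, hz⟩ : H) ∈ (P : Subgroup H) := by
    intro z hz n hzn
    have hpg : IsPGroup p (zpowers (⟨z, hz⟩ : H)) := by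
      obtain ⟨l, -, hl⟩ := (Nat.dvd_prime_pow (Fact.out : p.Prime)).mp
        (orderOf_dvd_of_pow_eq_one (x := (⟨z, hz⟩ : H)) (Subtype.ext hzn))
      exact IsPGroup.of_card (n := l) (by rw [Nat.card_zpowers, hl])
    obtain ⟨Q, hQ⟩ := hpg.exists_le_sylow
    rw [Subsingleton.elim Q P] at hQ
    exact hQ (mem_zpowers _)
  obtain ⟨k, hk⟩ := P.2 ⟨_, mul_mem (key x hx i hi) (key y hy j hj)⟩
  exact ⟨k, congrArg (fun z : (P : Subgroup H) => ((z : H) : G)) hk⟩

/-- The elements of `p`-power order of a nilpotent subgroup. -/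
def pPart (H : Subgroup G) (hn : Group.IsNilpotent H) (p : ℕ) [Fact p.Prime] : Subgroup G where
  carrier := {x | x ∈ H ∧ ∃ k, x ^ p ^ k = 1}
  one_mem' := ⟨one_mem H, 0, one_pow _⟩
  mul_mem' := fun {a b} ha hb => ⟨mul_mem ha.1 hb.1, by
    obtain ⟨i, hi⟩ := ha.2
    obtain ⟨j, hj⟩ := hb.2
    exact mul_primary hn ha.1 hb.1 hi hj⟩
  inv_mem' := fun {a} ha => ⟨inv_mem ha.1, ha.2.imp fun k hk => by rw [inv_pow, hk, inv_one]⟩

theorem mem_pPart {H : Subgroup G} {hn : Group.IsNilpotent H} {p : ℕ} [Fact p.Prime] {x : G} :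
    x ∈ pPart H hn p ↔ x ∈ H ∧ ∃ k, x ^ p ^ k = 1 := Iff.rfl

theorem isPGroup_pPart (H : Subgroup G) (hn : Group.IsNilpotent H) (p : ℕ) [Fact p.Prime] :
    IsPGroup p (pPart H hn p) := fun x => x.2.2.imp fun _ hk => Subtype.ext hk

theorem normalizer_le_pPart (H : Subgroup G) (hn : Group.IsNilpotent H) (p : ℕ) [Fact p.Prime] :
    normalizer (H : Set G) ≤ normalizer (pPart H hn p : Set G) := by
  intro g hg
  refine Subgroup.mem_normalizer_iff.mpr fun x => ?_
  rw [mem_pPart, mem_pPart]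
  refine and_congr ((Subgroup.mem_normalizer_iff.mp hg x)) (exists_congr fun k => ?_)
  rw [conj_pow, conj_eq_one_iff]

/-- An element of `p`-power order normalising a nilpotent subgroup of order divisible by `p` fixes something. -/
theorem exists_fixed {H : Subgroup G} (hn : Group.IsNilpotent H) {p : ℕ} [hp : Fact p.Prime]
    (hd : p ∣ Nat.card H) {x : G} (hx : x ∈ normalizer (H : Set G)) {k : ℕ} (hk : x ^ p ^ k = 1) :
    ∃ d ∈ H, orderOf d = p ∧ Commute x d := by
  set D := pPart H hn p with hD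
  obtain ⟨h0, hh0⟩ := exists_prime_orderOf_dvd_card' (G := H) p hd
  have hh : orderOf (h0 : G) = p := by rwa [Subgroup.orderOf_coe]
  have h0D : (h0 : G) ∈ D := mem_pPart.mpr ⟨h0.2, 1, by rw [pow_one, ← hh, pow_orderOf_eq_one]⟩
  have hZ : IsPGroup p (zpowers x) := by
    obtain ⟨l, -, hl⟩ := (Nat.dvd_prime_pow hp.out).mp (orderOf_dvd_of_pow_eq_one hk)
    exact IsPGroup.of_card (n := l) (by rw [Nat.card_zpowers, hl])
  have hle : zpowers x ≤ normalizer (D : Set G) := zpowers_le.mpr (normalizer_le_pPart H hn p hx)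
  set L := D ⊔ zpowers x with hL
  have hLp : IsPGroup p L := (isPGroup_pPart H hn p).to_sup_of_normal_left' hZ hle
  haveI := hLp.isNilpotent
  haveI : (D.subgroupOf L).Normal :=
    normal_subgroupOf_of_le_normalizer (sup_le Subgroup.le_normalizer hle)
  have hne : D.subgroupOf L ≠ ⊥ := fun e => hp.out.ne_one (by
    have : (⟨(h0 : G), le_sup_left (b := zpowers x) h0D⟩ : L) ∈ D.subgroupOf L := h0D
    rw [e, mem_bot] at this
    rw [← hh, show (h0 : G) = 1 from congrArg Subtype.val this, orderOf_one])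
  have hI := CfsgLib.inf_center_ne_bot_of_nilpotent (G := L) hne
  obtain ⟨d, hd', hd1⟩ := (Subgroup.bot_or_exists_ne_one _).resolve_left hI
  have hdD : (d : G) ∈ D := hd'.1
  obtain ⟨j, hj⟩ := (mem_pPart.mp hdD).2
  have hd1' : (d : G) ≠ 1 := fun e => hd1 (Subtype.ext e)
  have hpd : p ∣ orderOf (d : G) := by
    obtain ⟨l, -, hl⟩ := (Nat.dvd_prime_pow hp.out).mp (orderOf_dvd_of_pow_eq_one hj)
    rw [hl]
    exact dvd_pow_self _ fun e => hd1' (orderOf_eq_one_iff.mp (by rw [hl, e, pow_zero]))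
  refine ⟨(d : G) ^ (orderOf (d : G) / p), pow_mem (mem_pPart.mp hdD).1 _,
    orderOf_pow_orderOf_div (orderOf_pos _).ne' hpd, Commute.pow_right ?_ _⟩
  exact congrArg Subtype.val (Subgroup.mem_center_iff.mp hd'.2 ⟨x, Subgroup.mem_sup_right (mem_zpowers x)⟩)

end CfsgLib.Partition
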