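import Cfsg.Agent.Lib.Partition.CaseA
import Cfsg.Agent.Lib.Partition.CaseB
import Cfsg.Agent.Lib.Partition.L34
import Cfsg.Agent.Lib.CIT.Main
import Cfsg.Agent.Lib.SuzukiUnique.CIT

/-!
The simple groups with a partition.
-/

set_option autoImplicit false
set_option linter.unusedSectionVars false
set_option linter.style.haveILetI false

namespace CfsgLib.Partition

open Subgroup

universe u

variable {G : Type u} [Group G] [Finite G] [IsSimpleGroup G]

/-- A simple group with a partition is a two-dimensional special linear group or a Suzuki group. -/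
theorem simple_case (P : Part G) (hna : ∃ a b : G, a * b ≠ b * a) :
    (∃ (F : Type) (_ : Field F) (_ : Fintype F), 4 ≤ Fintype.card F ∧
      Nonempty (G ≃* Matrix.ProjectiveSpecialLinearGroup (Fin 2) F)) ∨ Cfsg.Lie.IsoSuzuki G := by
  by_cases hC : CIT.IsCIT G
  · rcases CIT.classification hna hC with ⟨hTI, h | h⟩ | h | h
    · obtain ⟨F, iF, iFt, n, hn, hF, he⟩ := h
      refine Or.inl ⟨F, iF, iFt, ?_, he⟩
      rw [hF]
      exact (Nat.pow_le_pow_right two_pos hn).trans' (by norm_num)
    · obtain ⟨F, iF, iFt, m, hm, hF, -, he⟩ := SuzukiUnique.exists_equiv_of_suzType hna hC hTI h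
      exact Or.inr ⟨F, iF, iFt, m, hm, hF, he⟩
    · obtain ⟨F, iF, iFt, hF, he⟩ := h
      exact Or.inl ⟨F, iF, iFt, by omega, he⟩
    · exact (no_l34 P h).elim
  · left
    obtain ⟨t, ht, ht2⟩ : ∃ t : G, orderOf t = 2 ∧ ¬ IsPGroup 2 (centralizer ({t} : Set G)) := by
      unfold CIT.IsCIT at hC
      push Not at hC
      exact hC
    obtain ⟨p, hp, hp2, hpd⟩ : ∃ p, p.Prime ∧ p ≠ 2 ∧ p ∣ Nat.card (centralizer ({t} : Set G)) := by
      by_contra hh
      push Not at hh
      exact ht2 (IsPGroup.of_card (Nat.eq_prime_pow_of_unique_prime_dvd Nat.card_pos.ne'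
        fun {d} hd hdd => by_contra fun hne => hh d hd hne hdd))
    haveI := Fact.mk hp
    obtain ⟨⟨y, hy⟩, hyo⟩ := exists_prime_orderOf_dvd_card' p hpd
    rw [Subgroup.orderOf_mk] at hyo
    have ht1 : t ≠ 1 := fun e => by simp [e] at ht
    have hyH : y ∈ P.comp t := P.mem_of_commute ht1 (P.self_mem t ht1) ht1 (mem_centralizer_singleton_iff.mp hy)
      (by rw [hyo, ht]; exact hp2)
    by_cases hB : ∃ s ∈ P.comp t, orderOf s = 2 ∧ ∃ g, g ∉ P.comp t ∧ Commute g s
    · obtain ⟨s, hs, hso, g, hg, hc⟩ := hB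
      have hst : P.comp s = P.comp t := P.comp_eq t s ht1 (fun e => by simp [e] at hso) hs
      exact caseB P hna hso (hst.symm ▸ hyH) hp hp2 hyo (hst.symm ▸ hg) hc
    · push Not at hB
      refine (caseA P hna ht hyH hp hp2 hyo fun s hs hso g hg => ?_).elim
      by_contra hgH
      exact hB s hs hso g hgH (mem_centralizer_singleton_iff.mp hg)

end CfsgLib.Partition
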